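import Groth.Agent.RLPsi35.SymFT

/-!
# Finite type submodules containing given sections
-/

universe u

set_option backward.isDefEq.respectTransparency false
set_option backward.isDefEq.respectTransparency.types false

open CategoryTheory CategoryTheory.Limits AlgebraicGeometry TopologicalSpace Opposite
open Groth.Agent.QCoh

noncomputable section

namespace Groth.Agent.RelProj34

variable {Y : Scheme.{u}}

/-- Finitely many sections lie in a finite type quasi-coherent submodule. -/
theorem exists_ft_sub_qcqs [CompactSpace Y] [QuasiSeparatedSpace Y] {F : Y.Modules} (hF : Coh.IsQCoh F)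
    {K : Type*} [Finite K] (U : K → Y.Opens) (hU : ∀ k, IsAffineOpen (U k))
    (T : ∀ k, Set Γ(F, U k)) (hT : ∀ k, (T k).Finite) :
    ∃ (E : Y.Modules) (_ : Coh.IsQCoh E) (_ : CohB1.IsFT E) (ι : E ⟶ F)
      (_ : ∀ V : Y.Opens, Function.Injective (ι.app V)),
      ∀ k, ∀ t ∈ T k, ∃ e, ι.app (U k) e = t := by
  choose N hN hTN using fun k =>
    exists_ftOn_contains hF (hU k) (QCoh.extStep_qcqs (hU k).isCompact) (T k) (hT k)
  let M := sumSub N
  have hM : FTOn M ⊤ := ftOn_sumSub N hN
  exact ⟨M.toModules, isQCoh_of_ftOn hF hM, isFT_of_ftOn hF hM, M.ι, fun V => M.ι_app_injective V,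
    fun k t ht => M.exists_app_eq (le_sumSub N k _ (hTN k ht))⟩

end Groth.Agent.RelProj34
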