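import Groth.Agent.RelProj34.QHomMap
import Groth.Agent.RelProj34.FTSub
import Groth.Agent.RLPsi35.Ext
import Groth.Agent.RLPsi35.Crit
import Groth.Agent.SymAlgX.GrSym
import Groth.Agent.Proj16.RelExist
import Groth.Agent.AmpleX.Rel

/-!
# Quasi-projective schemes embed in projective bundles of finite type modules
-/

universe u

set_option backward.isDefEq.respectTransparency false
set_option backward.isDefEq.respectTransparency.types false

open CategoryTheory CategoryTheory.Limits AlgebraicGeometry TopologicalSpace Opposite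
open Groth.Agent.QCoh

noncomputable section

namespace Groth.Agent.RelProj34

open RLPsi35 AModX AmpleX

variable {X : Scheme.{u}} {L : X.Modules} {𝒮 : RelProj.QCGrAlg X} {j : L ⟶ 𝒮.toModule}

/-- Powers of a homogeneous section are homogeneous. -/
lemma pow_mem_degSub {m : ℕ} {W : X.Opens} {s : 𝒮.presheaf.obj (op W)}
    (hs : (show Γ(𝒮.toQCAlg.toModule, W) from s) ∈ (degSub 𝒮 m).mem W) (r : ℕ) :
    (show Γ(𝒮.toQCAlg.toModule, W) from s ^ r) ∈ (degSub 𝒮 (r * m)).mem W := fun V hV h => by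
  show rB 𝒮.toQCAlg h (s ^ r) ∈ _
  rw [map_pow]
  exact SetLike.pow_mem_graded r (hs V hV h)

/-- Products of homogeneous sections are homogeneous. -/
lemma mul_mem_degSub {m m' : ℕ} {W : X.Opens} {s s' : 𝒮.presheaf.obj (op W)}
    (hs : (show Γ(𝒮.toQCAlg.toModule, W) from s) ∈ (degSub 𝒮 m).mem W)
    (hs' : (show Γ(𝒮.toQCAlg.toModule, W) from s') ∈ (degSub 𝒮 m').mem W) :
    (show Γ(𝒮.toQCAlg.toModule, W) from s * s') ∈ (degSub 𝒮 (m + m')).mem W := fun V hV h => by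
  show rB 𝒮.toQCAlg h (s * s') ∈ _
  rw [map_mul]
  exact SetLike.mul_mem_graded (hs V hV h) (hs' V hV h)

variable (hL : PicF.IsInvertible L) (hLq : Coh.IsQCoh L) (hj : RelProj.IsGrSymAlg L 𝒮 j)

include hLq hj in
/-- A power of a section, as a section of a tensor power. -/
lemma exists_pow_section {W : X.Opens} {m : ℕ} (a : Γ(CohB1.tensorPow L m, W)) {r : ℕ} (hr : 0 < r) :
    ∃ b : Γ(CohB1.tensorPow L (r * m), W), pw hL j b = pw hL j a ^ r ∧ locus b = locus a := by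
  obtain ⟨b, hb⟩ := exists_pw_eq hL hLq hj (pow_mem_degSub (pw_mem hL hj a) r)
  refine ⟨b, hb, Opens.ext (Set.ext fun x => ?_)⟩
  show x ∈ locus b ↔ x ∈ locus a
  by_cases hxW : x ∈ W
  swap
  · exact ⟨fun h => absurd (locus_le _ h) hxW, fun h => absurd (locus_le _ h) hxW⟩
  obtain ⟨V, hV, t, ht, hxV, hVW⟩ := exists_affine_frame hL hxW
  obtain ⟨c, hc⟩ := (isFrame_powElt ht m).exists_coord le_rfl (res _ hVW a)
  rw [res_self] at hc
  have hb' : res _ hVW b = c ^ r • powElt t (r * m) := pw_injective hL hLq hj (j := j) (by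
    rw [← pw_res, hb, map_pow, pw_res, hc, pw_frame_smul hL hV ht, pw_frame_smul hL hV ht, mul_pow,
      ← map_pow, ← pow_mul, mul_comm m r])
  have h1 := locus_frame hVW ht hc
  have h2 := locus_frame hVW ht hb'
  rw [show X.basicOpen (c ^ r) = X.basicOpen c from X.toRingedSpace.basicOpen_pow c r hr] at h2
  exact ⟨fun h => ((h2.trans h1.symm).le ⟨h, hxV⟩).1, fun h => ((h1.trans h2.symm).le ⟨h, hxV⟩).1⟩

include hLq hj in
/-- A section and the corresponding degree one element. -/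
lemma exists_section_elt {W : X.Opens} (a : Γ(L, W)) :
    ∃ a' : Γ(CohB1.tensorPow L 1, W), pw hL j a' = LineCone35.elt j a ∧ locus a' = locus a := by
  obtain ⟨a', ha'⟩ := exists_pw_eq hL hLq hj (n := 1) (g := LineCone35.elt j a) fun V hV h => by
    show rB 𝒮.toQCAlg h _ ∈ _
    rw [show rB 𝒮.toQCAlg h (LineCone35.elt j a) = LineCone35.elt j (AModX.res L h a) from
      LineCone35.elt_res j h a]
    exact LineCone35.elt_mem j hj hV
  refine ⟨a', ha', Opens.ext (Set.ext fun x => ?_)⟩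
  show x ∈ locus a' ↔ x ∈ locus a
  by_cases hxW : x ∈ W
  swap
  · exact ⟨fun h => absurd (locus_le _ h) hxW, fun h => absurd (locus_le _ h) hxW⟩
  obtain ⟨V, hV, t, ht, hxV, hVW⟩ := exists_affine_frame hL hxW
  obtain ⟨c, hc⟩ := ht.exists_coord le_rfl (res _ hVW a)
  rw [res_self] at hc
  have hb' : res _ hVW a' = c • powElt t 1 := pw_injective hL hLq hj (j := j) (by
    rw [← pw_res, ha', show rB 𝒮.toQCAlg hVW (LineCone35.elt j a) = LineCone35.elt j (AModX.res L hVW a) from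
      LineCone35.elt_res j hVW a, hc, LineCone35.elt_smul, pw_frame_smul hL hV ht, pow_one])
  have h1 := AmpleX.locus_inf a hVW ht hc
  have h2 := locus_frame hVW ht hb'
  exact ⟨fun h => ((h2.trans h1.symm).le ⟨h, hxV⟩).1, fun h => ((h1.trans h2.symm).le ⟨h, hxV⟩).1⟩

/-- Rescaling an extended section. -/
lemma rB_extend (ℬ : RelProj.QCGrAlg X) {W V V' : X.Opens} (h : V ≤ W) (h' : V' ≤ V) {N r : ℕ} (hle : N ≤ r)
    {T P : ℬ.presheaf.obj (op W)} {g : Γ(X, V)}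
    (he : rB ℬ.toQCAlg h T = (ℬ.str.app (op V)).hom g * rB ℬ.toQCAlg h P ^ N) :
    rB ℬ.toQCAlg h' (rB ℬ.toQCAlg h (T * P ^ (r - N))) =
      (ℬ.str.app (op V')).hom (AModX.resR h' g) * rB ℬ.toQCAlg h' (rB ℬ.toQCAlg h (P ^ r)) := by
  rw [map_mul (rB ℬ.toQCAlg h), he, map_pow, map_pow, mul_assoc, ← pow_add, Nat.add_sub_cancel' hle,
    map_mul, rB_str]
  rfl

/-- The data of finitely many affine loci with generators of their functions extending. -/
theorem exists_sections_with_generators {Y : Scheme.{u}} [CompactSpace Y] {f : X ⟶ Y} [QuasiCompact f]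
    [LocallyOfFiniteType f] (h : RelAmple.IsRelAmple f L) :
    ∃ (n : ℕ) (K : Type u) (_ : Finite K) (U : K → Y.Opens) (_ : ∀ k, IsAffineOpen (U k))
      (σ : ∀ k, Γ(CohB1.tensorPow L n, f ⁻¹ᵁ U k)) (G : ∀ k, Finset Γ(X, locus (σ k))),
      0 < n ∧ (∀ x : X, ∃ k, x ∈ locus (σ k)) ∧ (∀ k, IsAffineOpen (locus (σ k))) ∧
      (∀ k, letI := (f.appLE (U k) (locus (σ k)) (locus_le (σ k))).hom.toAlgebra
        Algebra.adjoin Γ(Y, U k) (G k : Set Γ(X, locus (σ k))) = ⊤) ∧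
      ∀ k, ∀ g ∈ G k, ∃ τ : Γ(CohB1.tensorPow L n, f ⁻¹ᵁ U k),
        AModX.res _ (locus_le (σ k)) τ = g • AModX.res _ (locus_le (σ k)) (σ k) := by
  classical
  have hL := AmpleX.isInvertible_of_isRelAmple h
  have hLq : Coh.IsQCoh L := ProjUPX.isQCoh_of_isInvertible hL
  obtain ⟨𝒮L, jL, hjL⟩ := SymAlgX.exists_isGrSymAlg L hLq
  have : IsSeparated f := AmpleX.isSeparated_of_ampleOn fun y => AmpleX.ampleOn_of_isRelAmple h (f y)
  have : CompactSpace X := QuasiCompact.compactSpace_of_compactSpace f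
  have hx : ∀ x : X, ∃ (U : Y.Opens) (_ : IsAffineOpen U) (m : ℕ) (_ : 0 < m)
      (a : Γ(CohB1.tensorPow L m, f ⁻¹ᵁ U)), x ∈ locus a ∧ IsAffineOpen (locus a) := fun x => by
    obtain ⟨_, ⟨U, hU, rfl⟩, hxU, -⟩ := Y.isBasis_affineOpens.exists_subset_of_mem_open
      (Set.mem_univ (f x)) isOpen_univ
    obtain ⟨m, hm, a, hxa, -, ha⟩ := exists_sections_of_isRelAmple h hU hxU (U := ⊤) trivial
    exact ⟨U, hU, m, hm, a, hxa, ha⟩
  choose U hU m hm a hxa ha using hx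
  obtain ⟨s, hs⟩ := isCompact_univ.elim_finite_subcover (fun x => (locus (a x) : Set X))
    (fun x => (locus (a x)).2) fun x _ => Set.mem_iUnion.mpr ⟨x, hxa x⟩
  have hG : ∀ x, ∃ G : Finset Γ(X, locus (a x)),
      letI := (f.appLE (U x) (locus (a x)) (locus_le (a x))).hom.toAlgebra
      Algebra.adjoin Γ(Y, U x) (G : Set Γ(X, locus (a x))) = ⊤ := fun x =>
    (f.finiteType_appLE (hU x) (ha x) (locus_le (a x))).out
  choose G hG using hG
  have hT : ∀ x, ∀ g : Γ(X, locus (a x)), ∃ (N : ℕ) (T : 𝒮L.presheaf.obj (op (f ⁻¹ᵁ U x))), 0 < N ∧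
      (show Γ(𝒮L.toQCAlg.toModule, f ⁻¹ᵁ U x) from T) ∈ (degSub 𝒮L (N * m x)).mem (f ⁻¹ᵁ U x) ∧
      rB 𝒮L.toQCAlg (locus_le (a x)) T = (𝒮L.str.app (op (locus (a x)))).hom g *
        rB 𝒮L.toQCAlg (locus_le (a x)) (pw hL jL (a x)) ^ N := fun x g =>
    exists_pw_extend hL hLq hjL (f.isCompact_preimage (hU x).isCompact)
      (f.isQuasiSeparated_preimage (hU x).isQuasiSeparated) (a x) g
  choose N T hN hTm hTe using hT
  let R : X → ℕ := fun x => (G x).sup (N x) + 1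
  let n : ℕ := ∏ x ∈ s, (R x * m x)
  have hn : 0 < n := Finset.prod_pos fun x _ => Nat.mul_pos (Nat.succ_pos _) (hm x)
  have hr : ∀ x : s, ∃ r, R x.1 ≤ r ∧ r * m x.1 = n := fun x => by
    obtain ⟨c, hc⟩ := Finset.dvd_prod_of_mem (fun x => R x * m x) x.2
    have hc' : n = R x.1 * m x.1 * c := hc
    have hc0 : 0 < c := by
      rcases Nat.eq_zero_or_pos c with rfl | h
      · simp only [mul_zero] at hc'; omega
      · exact h
    exact ⟨R x.1 * c, Nat.le_mul_of_pos_right _ hc0, by rw [hc']; ring⟩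
  choose r hRr hrn using hr
  have hb : ∀ x : s, ∃ b : Γ(CohB1.tensorPow L n, f ⁻¹ᵁ U x.1),
      pw hL jL b = pw hL jL (a x.1) ^ r x ∧ locus b = locus (a x.1) := fun x => by
    obtain ⟨b, hb⟩ := exists_pow_section hL hLq hjL (a x.1) (r := r x)
      (lt_of_lt_of_le (Nat.succ_pos _) (hRr x))
    exact hrn x ▸ ⟨b, hb⟩
  choose b hbpw hbl using hb
  refine ⟨n, s, inferInstance, fun x => U x.1, fun x => hU x.1, b,
    fun x => (G x.1).image (AModX.resR (hbl x).le), hn, fun y => ?_, fun x => (hbl x).symm ▸ ha x.1,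
    fun x => ?_, fun x g hg => ?_⟩
  · obtain ⟨x, hxs, hyx⟩ := Set.mem_iUnion₂.mp (hs (Set.mem_univ y))
    exact ⟨⟨x, hxs⟩, (hbl ⟨x, hxs⟩).symm ▸ hyx⟩
  · have key : ∀ (V : X.Opens) (h : V ≤ f ⁻¹ᵁ U x.1) (e : V = locus (a x.1)),
        letI := (f.appLE (U x.1) V h).hom.toAlgebra
        Algebra.adjoin Γ(Y, U x.1) (((G x.1).image (AModX.resR e.le) : Finset _) : Set Γ(X, V)) = ⊤ := by
      rintro _ h rfl
      rw [show (AModX.resR (le_refl (locus (a x.1))) : Γ(X, locus (a x.1)) → _) = id from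
        funext AModX.resR_self, Finset.image_id]
      exact hG x.1
    exact key _ (locus_le (b x)) (hbl x)
  · obtain ⟨g₀, hg₀, rfl⟩ := Finset.mem_image.1 hg
    have hle : N x.1 g₀ ≤ r x := le_trans ((Finset.le_sup (f := N x.1) hg₀).trans (Nat.le_succ _)) (hRr x)
    let Q := T x.1 g₀ * pw hL jL (a x.1) ^ (r x - N x.1 g₀)
    have hQ : (show Γ(𝒮L.toQCAlg.toModule, f ⁻¹ᵁ U x.1) from Q) ∈ (degSub 𝒮L n).mem (f ⁻¹ᵁ U x.1) := by
      have := mul_mem_degSub (hTm x.1 g₀) (pow_mem_degSub (pw_mem hL hjL (a x.1)) (r x - N x.1 g₀))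
      rwa [← add_mul, Nat.add_sub_cancel' hle, hrn x] at this
    obtain ⟨τ, hτ⟩ := exists_pw_eq hL hLq hjL hQ
    refine ⟨τ, pw_injective hL hLq hjL (j := jL) ?_⟩
    rw [← pw_res, hτ, pw_smul, ← pw_res, hbpw x,
      ← CExt24.rB_rB 𝒮L.toQCAlg (locus_le (a x.1)) (hbl x).le,
      ← CExt24.rB_rB 𝒮L.toQCAlg (locus_le (a x.1)) (hbl x).le]
    exact rB_extend 𝒮L (locus_le (a x.1)) (hbl x).le hle (hTe x.1 g₀)

/-- Quasi-projective schemes over quasi-compact quasi-separated bases embed in projective bundles. -/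
theorem exists_immersion_projBundle {Y : Scheme.{u}} [CompactSpace Y] [QuasiSeparatedSpace Y] {f : X ⟶ Y}
    [QuasiCompact f] [LocallyOfFiniteType f] (h : RelAmple.IsRelAmple f L) :
    ∃ (E : Y.Modules) (_ : Coh.IsQCoh E) (_ : CohB1.IsFT E) (𝒯 : RelProj.QCGrAlg Y) (jE : E ⟶ 𝒯.toModule)
      (_ : RelProj.IsGrSymAlg E 𝒯 jE) (P : Scheme.{u}) (p : P ⟶ Y)
      (chart : ∀ (U : Y.Opens) (hU : IsAffineOpen U), ((p ⁻¹ᵁ U : P.Opens) : Scheme.{u}) ≅ Proj (𝒯.deg U hU))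
      (_ : RelProj.IsRelProj 𝒯 p chart) (i : X ⟶ P), IsImmersion i ∧ i ≫ p = f := by
  classical
  obtain ⟨n, K, hK, U, hU, σ, G, -, hcov, hσ, hG, hτ⟩ := exists_sections_with_generators h
  choose τ hτ using hτ
  have : IsSeparated f := AmpleX.isSeparated_of_ampleOn fun y => AmpleX.ampleOn_of_isRelAmple h (f y)
  have hN : PicF.IsInvertible (CohB1.tensorPow L n) :=
    InvX.isInvertible_tensorPow (AmpleX.isInvertible_of_isRelAmple h) n
  have hNq : Coh.IsQCoh (CohB1.tensorPow L n) := ProjUPX.isQCoh_of_isInvertible hN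
  let Tset : ∀ k, Set Γ((Scheme.Modules.pushforward f).obj (CohB1.tensorPow L n), U k) := fun k =>
    insert (σ k) (Set.range fun g : G k => τ k g.1 g.2)
  obtain ⟨E, hE, hEft, ι, -, hlift⟩ := exists_ft_sub_qcqs (QCoh.isQCoh_pushforward f hNq) U hU Tset
    fun k => (Set.finite_range _).insert _
  obtain ⟨𝒯, jE, hjE⟩ := SymAlgX.exists_isGrSymAlg E hE
  obtain ⟨𝒮N, jN, hjN⟩ := SymAlgX.exists_isGrSymAlg _ hNq
  obtain ⟨PN, pN, chartN, hPN⟩ := Proj16.exists_isRelProj (𝒮 := 𝒮N)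
  obtain ⟨P, p, chart, hP⟩ := Proj16.exists_isRelProj (𝒮 := 𝒯)
  obtain ⟨u, hu⟩ := exists_qGrHom_of_map f hE hjE ι hjN.2
  obtain ⟨r, hr, -⟩ := ProjQMapX.existsUnique_isProjQMapOn u hP hPN
  have := isIso_pL hNq hjN hPN hN
  choose e he using fun k => hlift k (σ k) (Set.mem_insert _ _)
  choose σ' hσ' hσl using fun k => exists_section_elt hN hNq hjN (σ k)
  have hue : ∀ k, (u.app (U k)).hom ((jE.app (U k)) (e k)) = LineCone35.elt jN (σ k) := fun k =>
    (hu (U k) (e k)).trans (congrArg (jN.app (f ⁻¹ᵁ U k)) (he k))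
  let c : K → Piece u pN chartN := fun k =>
    ⟨U k, hU k, 1, one_pos, (jE.app (U k)) (e k), hjE.2 _ (hU k) (e k), locus (σ k), hσ k, locus_le (σ k),
      fun z => by
        rw [← hσl k]
        exact hit_iff_locus hN hNq hjN hPN hP one_pos (hjE.2 _ (hU k) (e k)) ((hσ' k).trans (hue k).symm) z⟩
  obtain ⟨htop, himm⟩ := Piece.isImmersion_of_cover hP hPN hr c (fun z => hcov (pN z)) fun k =>
    Piece.cond_of_generators hP hPN (c k) (G k) (hG k) fun g hg => by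
      obtain ⟨e', he'⟩ := hlift k (τ k g hg) (Set.mem_insert_of_mem _ ⟨⟨g, hg⟩, rfl⟩)
      refine ⟨1, (jE.app (U k)) e', hjE.2 _ (hU k) e', ?_⟩
      rw [pow_one]
      show _ * rB 𝒮N.toQCAlg (locus_le (σ k)) ((u.app (U k)).hom ((jE.app (U k)) (e k))) =
        rB 𝒮N.toQCAlg (locus_le (σ k)) ((u.app (U k)).hom ((jE.app (U k)) e'))
      rw [hue k, (hu (U k) e').trans (congrArg (jN.app (f ⁻¹ᵁ U k)) he')]
      show _ * rB 𝒮N.toQCAlg _ (LineCone35.elt jN (σ k)) = rB 𝒮N.toQCAlg _ (LineCone35.elt jN (τ k g hg))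
      rw [show rB 𝒮N.toQCAlg (locus_le (σ k)) (LineCone35.elt jN (σ k)) = _ from LineCone35.elt_res jN _ _,
        show rB 𝒮N.toQCAlg (locus_le (σ k)) (LineCone35.elt jN (τ k g hg)) = _ from LineCone35.elt_res jN _ _,
        hτ k g hg, LineCone35.elt_smul]
  have := ProjQMapX.isIso_ι_of_eq_top htop
  refine ⟨E, hE, hEft, 𝒯, jE, hjE, P, p, chart, hP, inv ((RelProj.domQ u pN chartN).ι ≫ pN) ≫ r,
    inferInstance, ?_⟩
  rw [Category.assoc, IsIso.inv_comp_eq, ProjQMapX.isProjQMapOn_comp hP hPN hr, Category.assoc]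

end Groth.Agent.RelProj34
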