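import Groth.Agent.RelProj34.Closed
import Groth.Agent.SymAlgX.GrSym
import Groth.Agent.RLPsi35.DegSub
import Groth.Agent.QCoh.FT
import Groth.Agent.S8292
import Groth.Agent.S8261

/-!
# Projective morphisms and closed immersions into projective bundles
-/

set_option autoImplicit false
set_option linter.style.haveILetI false
set_option linter.unusedSectionVars false

universe u

set_option backward.isDefEq.respectTransparency false
set_option backward.isDefEq.respectTransparency.types false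

open CategoryTheory CategoryTheory.Limits AlgebraicGeometry TopologicalSpace Opposite
open scoped HomogeneousIdeal

noncomputable section

namespace Groth.Agent.RelProj34

variable {Y : Scheme.{u}}

theorem finite_degSub {𝒮 : RelProj.QCGrAlg Y} (hft : 𝒮.IsFTDeg 1) {U : Y.Opens} (hU : IsAffineOpen U) :
    Module.Finite Γ(Y, U) Γ((RLPsi35.degSub 𝒮 1).toModules, U) := by
  classical
  obtain ⟨T, hT, hgen⟩ := hft U hU
  let N := RLPsi35.degSub 𝒮 1
  have hlift : ∀ t : T, ∃ t' : Γ(N.toModules, U), N.ι.app U t' = (show Γ(𝒮.toQCAlg.toModule, U) from t.1) :=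
    fun t => N.exists_app_eq ((RLPsi35.mem_degSub_iff 𝒮 hU t.1).mpr (hT t.2))
  choose t' ht' using hlift
  refine ⟨⟨Finset.univ.image t', eq_top_iff.2 fun x _ => ?_⟩⟩
  obtain ⟨c, hc⟩ := hgen _ ((RLPsi35.mem_degSub_iff 𝒮 hU _).mp (N.ι_app_mem U x))
  have hx : x = ∑ t : T, c t.1 • t' t := by
    apply N.ι_app_injective U
    rw [map_sum]
    refine hc.trans ?_
    rw [← Finset.sum_coe_sort]
    refine Finset.sum_congr rfl fun t _ => ?_
    rw [QCoh.ι_app_smul, ht']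
    rfl
  rw [hx]
  exact Submodule.sum_mem _ fun t _ => Submodule.smul_mem _ _
    (Submodule.subset_span (Finset.mem_coe.2 (Finset.mem_image.2 ⟨t, Finset.mem_univ t, rfl⟩)))

theorem exists_closedImmersion_of_isProjective {X : Scheme.{u}} {f : X ⟶ Y} (hf : RelProj.IsProjective f) :
    ∃ (E : Y.Modules) (𝒯 : RelProj.QCGrAlg Y) (j : E ⟶ 𝒯.toModule) (P : Scheme.{u}) (p : P ⟶ Y)
      (chart : ∀ (U : Y.Opens) (hU : IsAffineOpen U), ((p ⁻¹ᵁ U : P.Opens) : Scheme.{u}) ≅ Proj (𝒯.deg U hU))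
      (i : X ⟶ P),
      Coh.IsQCoh E ∧ CohB1.IsFT E ∧ RelProj.IsGrSymAlg E 𝒯 j ∧ RelProj.IsRelProj 𝒯 p chart ∧
        IsClosedImmersion i ∧ i ≫ p = f := by
  obtain ⟨𝒮, PS, pS, chartS, e, hgen, hft, hPS, he⟩ := hf
  let N := RLPsi35.degSub 𝒮 1
  have hE : Coh.IsQCoh N.toModules := RLPsi35.isQCoh_degSub 𝒮 1
  have hEft : CohB1.IsFT N.toModules :=
    QCoh.isFT_of_finite hE (fun V : Y.affineOpens => V.1) (iSup_affineOpens_eq_top Y) (fun V => V.2)
      fun V => finite_degSub hft V.2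
  obtain ⟨𝒯, j, hj⟩ := SymAlgX.exists_isGrSymAlg N.toModules hE
  obtain ⟨ψ, hψ, -⟩ := hj.1 𝒮.toQCAlg N.ι
  have hψj : ∀ (U : Y.Opens) (x : Γ(N.toModules, U)),
      (ψ.hom.app (op U)).hom ((j.app U) x) = (N.ι.app U) x := fun U x => congr($(hψ).app U x)
  have hu1 : ∀ (U : Y.Opens) (hU : IsAffineOpen U) (x : Γ(N.toModules, U)),
      (N.ι.app U) x ∈ 𝒮.deg U hU 1 := fun U hU x =>
    (RLPsi35.mem_degSub_iff 𝒮 hU _).mp (N.ι_app_mem U x)
  have hψgr : RelProj.IsGradedHom ψ := fun U hU d x hx => by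
    obtain ⟨a, rfl⟩ := (SymAlgX.secMap_bijective hE hj U hU).2 x
    rw [SymAlgX.secMap_mem_iff hE hj U hU] at hx
    refine SymAlgX.mem_of_mem_symDeg (𝒮.deg U hU) ((ψ.hom.app (op U)).hom.comp (SymAlgX.secMap j U))
      (fun r => ?_) (fun y => ?_) hx
    · rw [RingHom.comp_apply, SymAlgX.secMap_algebraMap,
        show (ψ.hom.app (op U)).hom ((𝒯.str.app (op U)).hom r) = (𝒮.str.app (op U)).hom r from
          CategoryTheory.congr_fun (NatTrans.congr_app ψ.comm (op U)) r]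
      exact 𝒮.str_mem U hU r
    · rw [RingHom.comp_apply, SymAlgX.secMap_ι, hψj]
      exact hu1 U hU y
  have husurj : ∀ (U : Y.Opens) (hU : IsAffineOpen U) (s : 𝒮.presheaf.obj (op U)), s ∈ 𝒮.deg U hU 1 →
      ∃ x : Γ(N.toModules, U), (N.ι.app U) x = s := fun U hU s hs =>
    N.exists_app_eq ((RLPsi35.mem_degSub_iff 𝒮 hU s).mpr hs)
  have hirr : ∀ (U : Y.Opens) (hU : IsAffineOpen U),
      (𝒮.deg U hU)₊ ≤ ((𝒯.deg U hU)₊).map (RelProj.gradedHomAt ψ hψgr U hU) := fun U hU => by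
    rw [HomogeneousIdeal.irrelevant_le]
    intro i hi b hb
    obtain ⟨a, ha, rfl⟩ := S8292.exists_preimage (RelProj.gradedHomAt ψ hψgr U hU) (hgen U hU)
      (fun y hy => by
        obtain ⟨x, hx⟩ := husurj U hU y hy
        exact ⟨(j.app U) x, (hψj U x).trans hx⟩) i hi b hb
    exact Ideal.mem_map_of_mem _ (HomogeneousIdeal.mem_irrelevant_of_mem _ hi ha)
  obtain ⟨PT, pT, chartT, hPT⟩ := Proj16.exists_isRelProj 𝒯
  obtain ⟨h, hh, -⟩ := Proj16.existsUnique_isRelProjMap ψ hψgr hirr hPT hPS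
  haveI : IsClosedImmersion h := S8292.result 𝒮 𝒯 hgen N.toModules hE N.ι hu1 husurj j hj ψ hψgr hψ hirr
    pT pS chartT chartS hPT hPS h hh
  refine ⟨N.toModules, 𝒯, j, PT, pT, chartT, e.hom ≫ h, hE, hEft, hj, hPT, inferInstance, ?_⟩
  rw [Category.assoc, Proj16.relProjMap_comp hPT hPS hh, he]

theorem isFTDeg_one_sym {E : Y.Modules} (hE : Coh.IsQCoh E) (hft : CohB1.IsFT E) {𝒯 : RelProj.QCGrAlg Y}
    {j : E ⟶ 𝒯.toModule} (hj : RelProj.IsGrSymAlg E 𝒯 j) : 𝒯.IsFTDeg 1 := by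
  classical
  intro U hU
  obtain ⟨T, hT⟩ := QCoh.finite_of_isFT hE hft hU
  let J : Γ(E, U) → 𝒯.presheaf.obj (op U) := fun x => (j.app U) x
  refine ⟨T.image J, ?_, fun a ha => ?_⟩
  · intro t ht
    obtain ⟨x, -, rfl⟩ := Finset.mem_image.1 (Finset.mem_coe.1 ht)
    exact hj.2 U hU x
  obtain ⟨x, rfl⟩ := SymAlgX.exists_of_mem_deg_one hE hj U hU ha
  have hx : x ∈ Submodule.span Γ(Y, U) (T : Set Γ(E, U)) := hT ▸ trivial
  induction hx using Submodule.span_induction with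
  | mem t ht =>
    refine ⟨fun s => if s = J t then 1 else 0, ?_⟩
    rw [Finset.sum_eq_single (J t) (fun b _ hb => by simp [hb])
      (fun hn => absurd (Finset.mem_image.2 ⟨t, ht, rfl⟩) hn)]
    simp [J]
  | zero => exact ⟨0, by simp⟩
  | add x y _ _ hx hy =>
    obtain ⟨c, hc⟩ := hx (hj.2 U hU x)
    obtain ⟨c', hc'⟩ := hy (hj.2 U hU y)
    refine ⟨c + c', ?_⟩
    rw [map_add]
    refine (congrArg₂ (fun a b : 𝒯.presheaf.obj (op U) => a + b) hc hc').trans ?_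
    rw [← Finset.sum_add_distrib]
    exact Finset.sum_congr rfl fun t _ => by rw [Pi.add_apply, map_add, add_mul]
  | smul r x _ hx =>
    obtain ⟨c, hc⟩ := hx (hj.2 U hU x)
    refine ⟨fun t => r * c t, ?_⟩
    refine (Scheme.Modules.Hom.app_smul j r x).trans ?_
    show (𝒯.str.app (op U)).hom r * J x = _
    rw [show J x = _ from hc, Finset.mul_sum]
    exact Finset.sum_congr rfl fun t _ => by rw [map_mul, mul_assoc]

theorem isProjective_of_closedImmersion_relProj {X : Scheme.{u}} {f : X ⟶ Y} {𝒯 : RelProj.QCGrAlg Y}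
    (hgenT : 𝒯.IsGenDegOne) (hftT : 𝒯.IsFTDeg 1) {P : Scheme.{u}} {p : P ⟶ Y}
    {chart : ∀ (U : Y.Opens) (hU : IsAffineOpen U), ((p ⁻¹ᵁ U : P.Opens) : Scheme.{u}) ≅ Proj (𝒯.deg U hU)}
    (hP : RelProj.IsRelProj 𝒯 p chart) (i : X ⟶ P) [IsClosedImmersion i] (hi : i ≫ p = f) :
    RelProj.IsProjective f := by
  classical
  haveI : QuasiCompact p := (S8261.result 𝒯 hgenT hftT p chart hP).2
  obtain ⟨ℬ, φ, hφ, PB, pB, chartB, h, e, hsurj, hB, hh, he⟩ := exists_quotient 𝒯 p chart hP i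
  have hpre : ∀ (U : Y.Opens) (hU : IsAffineOpen U) (n : ℕ) (b : ℬ.presheaf.obj (op U)), b ∈ ℬ.deg U hU n →
      ∃ a ∈ 𝒯.deg U hU n, (φ.hom.app (op U)).hom a = b := fun U hU n b hb =>
    exists_homogeneous_preimage _ (RelProj.gradedHomAt φ hφ U hU) (hsurj U hU) hb
  have hgenB : ℬ.IsGenDegOne := fun U hU => by
    rw [eq_top_iff]
    intro b _
    obtain ⟨a, rfl⟩ := hsurj U hU b
    have ha : a ∈ Subring.closure ((𝒯.deg U hU 0 : Set (𝒯.presheaf.obj (op U))) ∪ (𝒯.deg U hU 1 : Set _)) := by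
      rw [hgenT U hU]; trivial
    induction ha using Subring.closure_induction with
    | mem x hx => exact Subring.subset_closure (hx.imp (hφ U hU 0 x) (hφ U hU 1 x))
    | zero => rw [map_zero]; exact zero_mem _
    | one => rw [map_one]; exact one_mem _
    | add x y _ _ hx hy => rw [map_add]; exact add_mem (hx trivial) (hy trivial)
    | neg x _ hx => rw [map_neg]; exact neg_mem (hx trivial)
    | mul x y _ _ hx hy => rw [map_mul]; exact mul_mem (hx trivial) (hy trivial)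
  have hftB : ℬ.IsFTDeg 1 := fun U hU => by
    obtain ⟨T, hT, hgen⟩ := hftT U hU
    let F : 𝒯.presheaf.obj (op U) → ℬ.presheaf.obj (op U) := (φ.hom.app (op U)).hom
    refine ⟨T.image F, ?_, fun b hb => ?_⟩
    · intro t ht
      obtain ⟨x, hx, rfl⟩ := Finset.mem_image.1 (Finset.mem_coe.1 ht)
      exact hφ U hU 1 x (hT hx)
    obtain ⟨a, ha, rfl⟩ := hpre U hU 1 b hb
    obtain ⟨c, hc⟩ := hgen a ha
    refine ⟨fun y => ∑ t ∈ T with F t = y, c t, ?_⟩
    rw [hc, map_sum]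
    rw [← Finset.sum_fiberwise_of_maps_to (g := F) (fun t ht => Finset.mem_image_of_mem F ht)]
    refine Finset.sum_congr rfl fun y _ => ?_
    rw [map_sum, Finset.sum_mul]
    refine Finset.sum_congr rfl fun t ht => ?_
    rw [map_mul, show (φ.hom.app (op U)).hom ((𝒯.str.app (op U)).hom (c t)) = (ℬ.str.app (op U)).hom (c t) from
      CategoryTheory.congr_fun (NatTrans.congr_app φ.comm (op U)) (c t)]
    exact congrArg ((ℬ.str.app (op U)).hom (c t) * ·) (Finset.mem_filter.1 ht).2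
  refine ⟨ℬ, PB, pB, chartB, e.symm, hgenB, hftB, hB, ?_⟩
  have hcomp := ProjQMapX.isProjQMap_comp hP hB hh
  rw [Category.comp_id, ← he, Category.assoc, hi] at hcomp
  rw [Iso.symm_hom, Iso.inv_comp_eq]
  exact hcomp.symm

theorem isProjective_of_closedImmersion {X : Scheme.{u}} {f : X ⟶ Y} {E : Y.Modules} (hE : Coh.IsQCoh E)
    (hft : CohB1.IsFT E) {𝒯 : RelProj.QCGrAlg Y} {j : E ⟶ 𝒯.toModule} (hj : RelProj.IsGrSymAlg E 𝒯 j)
    {P : Scheme.{u}} {p : P ⟶ Y}
    {chart : ∀ (U : Y.Opens) (hU : IsAffineOpen U), ((p ⁻¹ᵁ U : P.Opens) : Scheme.{u}) ≅ Proj (𝒯.deg U hU)}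
    (hP : RelProj.IsRelProj 𝒯 p chart) (i : X ⟶ P) [IsClosedImmersion i] (hi : i ≫ p = f) :
    RelProj.IsProjective f :=
  isProjective_of_closedImmersion_relProj (SymAlgX.isGenDegOne hE hj) (isFTDeg_one_sym hE hft hj) hP i hi

end Groth.Agent.RelProj34
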