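import Groth.Agent.TwAdj35.Comap
import Groth.Agent.Proj16.RelExist
import Groth.Agent.ProjQMapX.Charts
import Groth.Agent.AModX.Res
import Groth.Agent.RelTildeX.Chart
import Mathlib.CategoryTheory.Limits.Shapes.Multiequalizer

/-!
# Existence of the twisting sheaves on a relative `Proj`
-/

universe u

set_option backward.isDefEq.respectTransparency false
set_option backward.isDefEq.respectTransparency.types false
set_option linter.style.haveILetI false

open CategoryTheory CategoryTheory.Limits AlgebraicGeometry TopologicalSpace Opposite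
open scoped HomogeneousIdeal

noncomputable section

namespace Groth.Agent.RelProj34

variable {Y P : Scheme.{u}} {𝒮 : RelProj.QCGrAlg Y} {p : P ⟶ Y}
  {chart : ∀ (U : Y.Opens) (hU : IsAffineOpen U), (((p ⁻¹ᵁ U : P.Opens) : Scheme.{u}) ≅ Proj (𝒮.deg U hU))}
  (hP : RelProj.IsRelProj 𝒮 p chart) (n : ℤ)

variable (p chart) in
/-- The direct image of a chart twisting sheaf. -/
def twPush (U : Y.affineOpens) : P.Modules :=
  (Scheme.Modules.pushforward (RelProj.emb p chart U.1 U.2)).obj (GrTwist.twist (𝒮.deg U.1 U.2) n)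

/-- A basic open of an affine open. -/
structure BasicPair (Y : Scheme.{u}) : Type u where
  U₀ : Y.Opens
  hU₀ : IsAffineOpen U₀
  D₀ : Y.Opens
  hD₀ : IsAffineOpen D₀
  hb : ∃ r : Γ(Y, U₀), Y.basicOpen r = D₀

/-- The bigger open. -/
abbrev BasicPair.U (i : BasicPair Y) : Y.affineOpens := ⟨i.U₀, i.hU₀⟩

/-- The smaller open. -/
abbrev BasicPair.D (i : BasicPair Y) : Y.affineOpens := ⟨i.D₀, i.hD₀⟩

lemma BasicPair.le (i : BasicPair Y) : i.D.1 ≤ i.U.1 := ProjQMapX.le_of_basic i.hb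

variable (𝒮) in
/-- The restriction of graded rings of a pair. -/
abbrev pairRes (i : BasicPair Y) := 𝒮.res i.U.2 i.D.2 i.le

variable (𝒮) in
lemma pairIrr (i : BasicPair Y) :
    (𝒮.deg i.D.1 i.D.2)₊ ≤ ((𝒮.deg i.U.1 i.U.2)₊).map (pairRes 𝒮 i) :=
  Proj16.irrelevant_le_res 𝒮 _ _ _ i.hb

include hP in
lemma pair_map_emb (i : BasicPair Y) :
    Proj.map (pairRes 𝒮 i) (pairIrr 𝒮 i) ≫ RelProj.emb p chart i.U.1 i.U.2 =
      RelProj.emb p chart i.D.1 i.D.2 := by
  obtain ⟨U, hU, D, hD, hb⟩ := i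
  obtain ⟨r, rfl⟩ := hb
  exact RelProj.map_res_emb hP U hU r

/-- The comparison of the chart sheaves of a pair. -/
def twRes (i : BasicPair Y) : twPush p chart n i.U ⟶ twPush p chart n i.D :=
  (Scheme.Modules.pushforward (RelProj.emb p chart i.U.1 i.U.2)).map
      (GrTwist.comap (pairRes 𝒮 i) (pairIrr 𝒮 i) n) ≫
    (Scheme.Modules.pushforwardComp (Proj.map (pairRes 𝒮 i) (pairIrr 𝒮 i))
      (RelProj.emb p chart i.U.1 i.U.2)).hom.app _ ≫
    (Scheme.Modules.pushforwardCongr (pair_map_emb hP i)).hom.app _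

lemma val_twRes (i : BasicPair Y) (W : P.Opens) (t : Γ(twPush p chart n i.U, W))
    (y : ProjectiveSpectrum (𝒮.deg i.D.1 i.D.2))
    (hy : RelProj.emb p chart i.D.1 i.D.2 y ∈ W)
    (hy' : RelProj.emb p chart i.U.1 i.U.2
      (ProjectiveSpectrum.comap (pairRes 𝒮 i) (pairIrr 𝒮 i) y) ∈ W) :
    GrTwist.val (V := RelProj.emb p chart i.D.1 i.D.2 ⁻¹ᵁ W) ((twRes hP n i).app W t) ⟨y, hy⟩ =
      GrTwist.locMap (pairRes 𝒮 i) (pairIrr 𝒮 i) y
        (GrTwist.val (V := RelProj.emb p chart i.U.1 i.U.2 ⁻¹ᵁ W) t ⟨_, hy'⟩) := rfl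

lemma twRes_bijective (i : BasicPair Y) {W : P.Opens} (hW : W ≤ p ⁻¹ᵁ i.D.1) :
    Function.Bijective ((twRes hP n i).app W) := by
  have hst : ∀ y, TwAdj35.StalkBij (pairRes 𝒮 i) (pairIrr 𝒮 i) n y := by
    obtain ⟨U, hU, D, hD, hb⟩ := i
    obtain ⟨r, rfl⟩ := hb
    exact TwAdj35.stalkBij_of_invertsZero (Proj16.res_invertsZero 𝒮 U hU r) n
  have : IsOpenImmersion (Proj.map (pairRes 𝒮 i) (pairIrr 𝒮 i)) := by
    obtain ⟨U, hU, D, hD, hb⟩ := i
    obtain ⟨r, rfl⟩ := hb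
    exact Proj16.isOpenImmersion_map_res 𝒮 U hU r
  have hle : RelProj.emb p chart i.U.1 i.U.2 ⁻¹ᵁ W ≤
      (Proj.map (pairRes 𝒮 i) (pairIrr 𝒮 i)).opensRange := fun z hz => by
    obtain ⟨w, hw⟩ := ProjQMapX.exists_emb_eq (chart := chart) i.D.1 i.D.2 (hW hz)
    exact ⟨w, (RelProj.emb p chart i.U.1 i.U.2).isOpenEmbedding.injective
      (by rw [← hw, ← pair_map_emb hP i]; rfl)⟩
  have h1 : Function.Bijective
      (((Scheme.Modules.pushforwardComp (Proj.map (pairRes 𝒮 i) (pairIrr 𝒮 i))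
        (RelProj.emb p chart i.U.1 i.U.2)).hom.app (GrTwist.twist (𝒮.deg i.D.1 i.D.2) n) ≫
      (Scheme.Modules.pushforwardCongr (pair_map_emb hP i)).hom.app _).app W) :=
    (ConcreteCategory.isIso_iff_bijective _).1 inferInstance
  exact h1.comp (TwAdj35.comap_app_bijective _ _ n hst _ hle)

variable (Y) in
/-- The shape of the gluing diagram. -/
def pairShape : MulticospanShape.{u, u} where
  L := Y.affineOpens
  R := BasicPair Y
  fst i := i.D
  snd i := i.U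

/-- The gluing diagram. -/
def twDiagram : MulticospanIndex (pairShape Y) P.Modules where
  left := twPush p chart n
  right i := twPush p chart n i.D
  fst _ := 𝟙 _
  snd i := twRes hP n i

/-- Sections over an open, as types. -/
abbrev evalT (W : P.Opens) : P.Modules ⥤ Type u :=
  Scheme.Modules.toPresheaf P ⋙ (evaluation P.Opensᵒᵖ AddCommGrpCat.{u}).obj (op W) ⋙ forget AddCommGrpCat

instance preservesLimit_evalT (W : P.Opens) : PreservesLimitsOfSize.{u, u} (evalT W) := by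
  haveI : PreservesLimitsOfSize.{u, u} ((evaluation P.Opensᵒᵖ AddCommGrpCat.{u}).obj (op W)) :=
    ⟨fun {J} _ => evaluation_preservesLimitsOfShape (op W)⟩
  exact comp_preservesLimits _ _

/-- The glued sheaf. -/
def twistMod : P.Modules := multiequalizer (twDiagram hP n)

/-- Its projections. -/
def twProj (U : Y.affineOpens) : twistMod hP n ⟶ twPush p chart n U :=
  Multiequalizer.ι (twDiagram hP n) U

/-- Its chart identifications. -/
def twistLam (U : Y.Opens) (hU : IsAffineOpen U) :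
    twistMod hP n ⟶ (Scheme.Modules.pushforward (RelProj.emb p chart U hU)).obj (GrTwist.twist (𝒮.deg U hU) n) :=
  twProj hP n ⟨U, hU⟩

lemma twistLam_condition (i : BasicPair Y) (W : P.Opens) (s : Γ(twistMod hP n, W)) :
    (twProj hP n i.D).app W s = (twRes hP n i).app W ((twProj hP n i.U).app W s) :=
  congrArg (fun φ => (Scheme.Modules.Hom.app φ W) s)
    ((Category.comp_id _).symm.trans (Multiequalizer.condition (twDiagram hP n) i))

lemma exists_of_family (W : P.Opens) (t : ∀ U : Y.affineOpens, Γ(twPush p chart n U, W))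
    (ht : ∀ i : BasicPair Y, t i.D = (twRes hP n i).app W (t i.U)) :
    ∃ s : Γ(twistMod hP n, W), ∀ U : Y.affineOpens, (twProj hP n U).app W s = t U := by
  let F := (twDiagram hP n).multicospan ⋙ evalT W
  let hl := isLimitOfPreserves (evalT W) (limit.isLimit (twDiagram hP n).multicospan)
  let σ : F.sections := ⟨fun j => match j with
      | WalkingMulticospan.left U => t U
      | WalkingMulticospan.right i => t i.D, by
    rintro _ _ (_ | i | i)
    · simp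
    · rfl
    · exact (ht i).symm⟩
  refine ⟨(Types.isLimitEquivSections hl).symm σ, fun U => ?_⟩
  exact Types.isLimitEquivSections_symm_apply hl σ (WalkingMulticospan.left U)

lemma eq_of_family {W : P.Opens} {s s' : Γ(twistMod hP n, W)}
    (h : ∀ U : Y.affineOpens, (twProj hP n U).app W s = (twProj hP n U).app W s') : s = s' := by
  let hl := isLimitOfPreserves (evalT W) (limit.isLimit (twDiagram hP n).multicospan)
  refine (Types.isLimitEquivSections hl).injective (Subtype.ext (funext fun j => ?_))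
  match j with
  | WalkingMulticospan.left U => exact h U
  | WalkingMulticospan.right i =>
    show (limit.π (twDiagram hP n).multicospan (WalkingMulticospan.right i)).app W s =
      (limit.π (twDiagram hP n).multicospan (WalkingMulticospan.right i)).app W s'
    rw [← limit.w (twDiagram hP n).multicospan
      (WalkingMulticospan.Hom.fst i : WalkingMulticospan.left ((pairShape Y).fst i) ⟶ WalkingMulticospan.right i)]
    exact h i.D

/-- Two charts and a point: a common basic open. -/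
lemma exists_common (U V : Y.affineOpens) {x : P} (hU : p x ∈ U.1) (hV : p x ∈ V.1) :
    ∃ (i i' : BasicPair Y), i.U = U ∧ i'.U = V ∧ i'.D = i.D ∧ p x ∈ i.D.1 := by
  obtain ⟨D, hD, hxD, -, hbU, hbV⟩ := ProjQMapX.exists_affine_basic_inter U.2 V.2 (O := ⊤) hU hV trivial
  exact ⟨⟨U.1, U.2, D, hD, hbU⟩, ⟨V.1, V.2, D, hD, hbV⟩, rfl, rfl, rfl, hxD⟩

lemma res_inj (V : Y.affineOpens) {W : P.Opens} {t t' : Γ(twPush p chart n V, W)}
    (h : AModX.res _ (inf_le_left : W ⊓ p ⁻¹ᵁ V.1 ≤ W) t = AModX.res _ inf_le_left t') : t = t' := by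
  refine Subtype.ext (funext fun z => ?_)
  exact congrFun (congrArg Subtype.val h) ⟨z.1, z.2, ProjQMapX.emb_mem V.1 V.2 z.1⟩

lemma lam_injective {U : Y.affineOpens} {W : P.Opens} (hW : W ≤ p ⁻¹ᵁ U.1) :
    Function.Injective ((twProj hP n U).app W) := by
  intro s s' h
  refine eq_of_family hP n fun V => res_inj n V (AModX.eq_of_locally _ _ fun x hx => ?_)
  obtain ⟨i, i', hi, hi', he, hxD⟩ := exists_common U V (hW hx.1) hx.2
  subst hi hi'
  refine ⟨W ⊓ p ⁻¹ᵁ i'.D.1, le_inf inf_le_left (inf_le_right.trans (p.preimage_mono i'.le)),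
    ⟨hx.1, he ▸ hxD⟩, ?_⟩
  refine (twRes_bijective hP n i' inf_le_right).1 ?_
  have key : ∀ (a : Γ(twistMod hP n, W ⊓ p ⁻¹ᵁ i'.D.1)), (twProj hP n i'.D).app _ a =
      (twRes hP n i').app _ ((twProj hP n i'.U).app _ a) := twistLam_condition hP n i' _
  have h0 : (twProj hP n i.U).app _ (AModX.res (twistMod hP n) inf_le_left s) =
      (twProj hP n i.U).app (W ⊓ p ⁻¹ᵁ i'.D.1) (AModX.res (twistMod hP n) inf_le_left s') := by
    rw [AModX.app_res, AModX.app_res, h]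
  rw [AModX.res_res, AModX.res_res, ← AModX.app_res (twProj hP n i'.U), ← AModX.app_res (twProj hP n i'.U), ← key,
    ← key]
  have key2 : ∀ (D : Y.affineOpens), i.D = D →
      (twProj hP n D).app (W ⊓ p ⁻¹ᵁ i'.D.1) (AModX.res (twistMod hP n) inf_le_left s) =
        (twProj hP n D).app (W ⊓ p ⁻¹ᵁ i'.D.1) (AModX.res (twistMod hP n) inf_le_left s') := by
    rintro _ rfl
    rw [twistLam_condition hP n i, twistLam_condition hP n i, h0]
  exact key2 _ he.symm

/-- `D` is a basic open of `U`. -/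
abbrev Bas (U D : Y.affineOpens) : Prop := ∃ r : Γ(Y, U.1), Y.basicOpen r = D.1

lemma Bas.trans {U D E : Y.affineOpens} (h : Bas U D) (h' : Bas D E) : Bas U E := by
  obtain ⟨U, hU⟩ := U
  obtain ⟨D, hD⟩ := D
  obtain ⟨E, hE⟩ := E
  obtain ⟨r, rfl⟩ := h
  obtain ⟨g, rfl⟩ := h'
  obtain ⟨f, hf⟩ := IsAffineOpen.basicOpen_basicOpen_is_basicOpen hU r g
  exact ⟨f, hf⟩

/-- The comparison for a basic open. -/
abbrev tw2 {U D : Y.affineOpens} (h : Bas U D) : twPush p chart n U ⟶ twPush p chart n D :=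
  twRes hP n ⟨U.1, U.2, D.1, D.2, h⟩

lemma tw2_comp {U D E : Y.affineOpens} (h : Bas U D) (h' : Bas D E) (W : P.Opens)
    (t : Γ(twPush p chart n U, W)) :
    (tw2 hP n h').app W ((tw2 hP n h).app W t) = (tw2 hP n (h.trans h')).app W t := by
  refine Subtype.ext (funext fun ⟨y, hy⟩ => Subtype.ext ?_)
  let k : BasicPair Y := ⟨D.1, D.2, E.1, E.2, h'⟩
  let i : BasicPair Y := ⟨U.1, U.2, D.1, D.2, h⟩
  let m : BasicPair Y := ⟨U.1, U.2, E.1, E.2, h.trans h'⟩
  have hyD : RelProj.emb p chart D.1 D.2 (ProjectiveSpectrum.comap (pairRes 𝒮 k) (pairIrr 𝒮 k) y) ∈ W := by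
    have e := congrArg (fun φ : Proj (𝒮.deg E.1 E.2) ⟶ P => φ y) (pair_map_emb hP k)
    exact (show _ = _ from e).symm ▸ hy
  have hyU : RelProj.emb p chart U.1 U.2 (ProjectiveSpectrum.comap (pairRes 𝒮 i) (pairIrr 𝒮 i)
      (ProjectiveSpectrum.comap (pairRes 𝒮 k) (pairIrr 𝒮 k) y)) ∈ W := by
    have e := congrArg (fun φ : Proj (𝒮.deg D.1 D.2) ⟶ P =>
      φ (ProjectiveSpectrum.comap (pairRes 𝒮 k) (pairIrr 𝒮 k) y)) (pair_map_emb hP i)
    exact (show _ = _ from e).symm ▸ hyD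
  have hyU' : RelProj.emb p chart U.1 U.2 (ProjectiveSpectrum.comap (pairRes 𝒮 m) (pairIrr 𝒮 m) y) ∈ W := by
    have e := congrArg (fun φ : Proj (𝒮.deg E.1 E.2) ⟶ P => φ y) (pair_map_emb hP m)
    exact (show _ = _ from e).symm ▸ hy
  refine (val_twRes hP n k W _ y hy hyD).trans ?_
  refine Eq.trans ?_ (val_twRes hP n m W t y hy hyU').symm
  refine (congrArg (GrTwist.locMap (pairRes 𝒮 k) (pairIrr 𝒮 k) y)
    (val_twRes hP n i W t _ hyD hyU)).trans ?_
  have hcomp : ∀ a, pairRes 𝒮 k (pairRes 𝒮 i a) = pairRes 𝒮 m a := fun a =>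
    (ConcreteCategory.congr_hom (𝒮.presheaf.map_comp (homOfLE i.le).op (homOfLE k.le).op) a).symm
  have hpt : ProjectiveSpectrum.comap (pairRes 𝒮 i) (pairIrr 𝒮 i)
      (ProjectiveSpectrum.comap (pairRes 𝒮 k) (pairIrr 𝒮 k) y) =
      ProjectiveSpectrum.comap (pairRes 𝒮 m) (pairIrr 𝒮 m) y := by
    refine ProjectiveSpectrum.ext (HomogeneousIdeal.toIdeal_injective (Ideal.ext fun a => ?_))
    show pairRes 𝒮 k (pairRes 𝒮 i a) ∈ y.asHomogeneousIdeal ↔ pairRes 𝒮 m a ∈ y.asHomogeneousIdeal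
    rw [hcomp]
  obtain ⟨V, hxV, iV, i₁, j₁, a, s, hs, -, hfr⟩ :=
    (show GrTwist.sectN (𝒜 := 𝒮.deg U.1 U.2) n (op (RelProj.emb p chart U.1 U.2 ⁻¹ᵁ W)) from t).2 ⟨_, hyU⟩
  have hxV' : ProjectiveSpectrum.comap (pairRes 𝒮 m) (pairIrr 𝒮 m) y ∈ V := hpt ▸ hxV
  refine (congrArg (GrTwist.locMap (pairRes 𝒮 k) (pairIrr 𝒮 k) y)
    (congrArg (GrTwist.locMap (pairRes 𝒮 i) (pairIrr 𝒮 i) _) (hfr ⟨_, hxV⟩))).trans ?_
  refine Eq.trans ?_ (congrArg (GrTwist.locMap (pairRes 𝒮 m) (pairIrr 𝒮 m) y) (hfr ⟨_, hxV'⟩)).symm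
  rw [GrTwist.locMap_mk, GrTwist.locMap_mk, GrTwist.locMap_mk]
  congr 1
  · exact hcomp _
  · exact Subtype.ext (hcomp _)

/-- `b` corresponds to `t` over every common basic open. -/
def Matches {U : Y.affineOpens} {W : P.Opens} (t : Γ(twPush p chart n U, W)) (V : Y.affineOpens)
    (b : Γ(twPush p chart n V, W)) : Prop :=
  ∀ (D : Y.affineOpens) (h : Bas U D) (h' : Bas V D),
    (tw2 hP n h').app (W ⊓ p ⁻¹ᵁ D.1) (AModX.res _ inf_le_left b) =
      (tw2 hP n h).app (W ⊓ p ⁻¹ᵁ D.1) (AModX.res _ inf_le_left t)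

lemma exists_common' (U V : Y.affineOpens) {x : P} (hU : p x ∈ U.1) (hV : p x ∈ V.1) :
    ∃ D : Y.affineOpens, Bas U D ∧ Bas V D ∧ p x ∈ D.1 := by
  obtain ⟨D, hD, hxD, -, hbU, hbV⟩ := ProjQMapX.exists_affine_basic_inter U.2 V.2 (O := ⊤) hU hV trivial
  exact ⟨⟨D, hD⟩, hbU, hbV, hxD⟩

lemma matches_unique {U : Y.affineOpens} {W : P.Opens} (hW : W ≤ p ⁻¹ᵁ U.1) {t : Γ(twPush p chart n U, W)}
    {V : Y.affineOpens} {b b' : Γ(twPush p chart n V, W)} (h : Matches hP n t V b) (h' : Matches hP n t V b') :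
    b = b' := by
  refine res_inj n V (AModX.eq_of_locally _ _ fun x hx => ?_)
  obtain ⟨D, hUD, hVD, hxD⟩ := exists_common' U V (hW hx.1) hx.2
  refine ⟨W ⊓ p ⁻¹ᵁ D.1, le_inf inf_le_left (inf_le_right.trans (p.preimage_mono (ProjQMapX.le_of_basic hVD))),
    ⟨hx.1, hxD⟩, ?_⟩
  refine (twRes_bijective hP n ⟨V.1, V.2, D.1, D.2, hVD⟩ inf_le_right).1 ?_
  rw [AModX.res_res, AModX.res_res]
  exact (h D hUD hVD).trans (h' D hUD hVD).symm

lemma local_agree {U V D D' E : Y.affineOpens} (hUD : Bas U D) (hVD : Bas V D) (hUD' : Bas U D')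
    (hVD' : Bas V D') (hDE : Bas D E) (hD'E : Bas D' E) {O O' O'' : P.Opens} (hO : O'' ≤ O) (hO' : O'' ≤ O')
    (hE : O'' ≤ p ⁻¹ᵁ E.1) (c : Γ(twPush p chart n V, O)) (c' : Γ(twPush p chart n V, O'))
    (t : Γ(twPush p chart n U, O)) (t' : Γ(twPush p chart n U, O'))
    (ht : AModX.res _ hO t = AModX.res _ hO' t')
    (hc : (tw2 hP n hVD).app O c = (tw2 hP n hUD).app O t)
    (hc' : (tw2 hP n hVD').app O' c' = (tw2 hP n hUD').app O' t') :
    AModX.res _ hO c = AModX.res _ hO' c' := by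
  refine (twRes_bijective hP n ⟨V.1, V.2, E.1, E.2, hVD.trans hDE⟩ hE).1 ?_
  calc (tw2 hP n (hVD.trans hDE)).app O'' (AModX.res _ hO c)
      = (tw2 hP n hDE).app O'' ((tw2 hP n hVD).app O'' (AModX.res _ hO c)) :=
        (tw2_comp hP n hVD hDE O'' _).symm
    _ = (tw2 hP n hDE).app O'' ((tw2 hP n hUD).app O'' (AModX.res _ hO t)) :=
        congrArg _ (by rw [AModX.app_res, AModX.app_res, hc])
    _ = (tw2 hP n (hUD.trans hDE)).app O'' (AModX.res _ hO t) := tw2_comp hP n hUD hDE O'' _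
    _ = (tw2 hP n (hUD'.trans hD'E)).app O'' (AModX.res _ hO' t') := congrArg _ ht
    _ = (tw2 hP n hD'E).app O'' ((tw2 hP n hUD').app O'' (AModX.res _ hO' t')) :=
        (tw2_comp hP n hUD' hD'E O'' _).symm
    _ = (tw2 hP n hD'E).app O'' ((tw2 hP n hVD').app O'' (AModX.res _ hO' c')) :=
        congrArg _ (by rw [AModX.app_res, AModX.app_res, hc'])
    _ = (tw2 hP n (hVD.trans hDE)).app O'' (AModX.res _ hO' c') := tw2_comp hP n hVD' hD'E O'' _

lemma matches_exists {U : Y.affineOpens} {W : P.Opens} (hW : W ≤ p ⁻¹ᵁ U.1) (t : Γ(twPush p chart n U, W))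
    (V : Y.affineOpens) : ∃ b, Matches hP n t V b := by
  let ι' := {D : Y.affineOpens // Bas U D ∧ Bas V D}
  let O : ι' → P.Opens := fun D => W ⊓ p ⁻¹ᵁ D.1.1
  have hO : ∀ D : ι', O D ≤ W ⊓ p ⁻¹ᵁ V.1 := fun D =>
    le_inf inf_le_left (inf_le_right.trans (p.preimage_mono (ProjQMapX.le_of_basic D.2.2)))
  choose c hc using fun D : ι' => (twRes_bijective hP n ⟨V.1, V.2, D.1.1, D.1.2, D.2.2⟩
    (W := O D) inf_le_right).2 ((tw2 hP n D.2.1).app (O D) (AModX.res _ inf_le_left t))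
  have hag : ∀ D D' : ι', AModX.res _ (inf_le_left : O D ⊓ O D' ≤ O D) (c D) =
      AModX.res _ inf_le_right (c D') := fun D D' => by
    refine AModX.eq_of_locally _ _ fun x hx => ?_
    obtain ⟨E, hDE, hD'E, hxE⟩ := exists_common' D.1 D'.1 hx.1.2 hx.2.2
    have hE : W ⊓ p ⁻¹ᵁ E.1 ≤ O D ⊓ O D' :=
      le_inf (inf_le_inf_left _ (p.preimage_mono (ProjQMapX.le_of_basic hDE)))
        (inf_le_inf_left _ (p.preimage_mono (ProjQMapX.le_of_basic hD'E)))
    refine ⟨W ⊓ p ⁻¹ᵁ E.1, hE, ⟨hx.1.1, hxE⟩, ?_⟩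
    rw [AModX.res_res, AModX.res_res]
    exact local_agree hP n D.2.1 D.2.2 D'.2.1 D'.2.2 hDE hD'E _ _ inf_le_right (c D) (c D')
      (AModX.res _ inf_le_left t) (AModX.res _ inf_le_left t) (by rw [AModX.res_res, AModX.res_res])
      (hc D) (hc D')
  obtain ⟨b₀, hb₀, -⟩ := AModX.existsUnique_glue (M := twPush p chart n V) (V := W ⊓ p ⁻¹ᵁ V.1) O hO
    (fun x hx => by
      obtain ⟨D, hUD, hVD, hxD⟩ := exists_common' U V (hW hx.1) hx.2
      exact ⟨⟨D, hUD, hVD⟩, hx.1, hxD⟩) c hag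
  have hpre : RelProj.emb p chart V.1 V.2 ⁻¹ᵁ W ≤ RelProj.emb p chart V.1 V.2 ⁻¹ᵁ (W ⊓ p ⁻¹ᵁ V.1) :=
    fun z hz => ⟨hz, ProjQMapX.emb_mem V.1 V.2 z⟩
  refine ⟨GrTwist.resN n (homOfLE hpre).op b₀, fun D hUD hVD => ?_⟩
  have h1 : AModX.res (twPush p chart n V) (inf_le_left : O ⟨D, hUD, hVD⟩ ≤ W)
      (GrTwist.resN n (homOfLE hpre).op b₀) = c ⟨D, hUD, hVD⟩ := (hb₀ ⟨D, hUD, hVD⟩)
  exact (congrArg _ h1).trans (hc ⟨D, hUD, hVD⟩)

theorem isRelTwist_twistMod : RelProj.IsRelTwist 𝒮 p chart n (twistMod hP n) (twistLam hP n) where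
  compat U hU r W s y hy hy' :=
    congrArg (fun σ => GrTwist.val (V := RelProj.emb p chart (Y.basicOpen r) (hU.basicOpen r) ⁻¹ᵁ W) σ ⟨y, hy⟩)
      (twistLam_condition hP n ⟨U, hU, Y.basicOpen r, hU.basicOpen r, r, rfl⟩ W s)
  bijective U hU W hW := ⟨lam_injective hP n (U := ⟨U, hU⟩) hW, fun t => by
    choose b hb using matches_exists hP n (U := ⟨U, hU⟩) hW t
    obtain ⟨s, hs⟩ := exists_of_family hP n W b fun i => by
      refine matches_unique hP n hW (hb i.D) fun E hUE hDE => ?_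
      show (tw2 hP n hDE).app _ (AModX.res _ _ ((tw2 hP n (U := i.U) (D := i.D) i.hb).app W (b i.U))) = _
      rw [← AModX.app_res, tw2_comp]
      exact hb i.U E hUE _
    refine ⟨s, (hs ⟨U, hU⟩).trans (matches_unique hP n hW (hb _) fun D _ _ => rfl)⟩⟩

include hP in
theorem exists_isRelTwist :
    ∃ (L : P.Modules) (lam : ∀ (U : Y.Opens) (hU : IsAffineOpen U),
      L ⟶ (Scheme.Modules.pushforward (RelProj.emb p chart U hU)).obj (GrTwist.twist (𝒮.deg U hU) n)),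
      RelProj.IsRelTwist 𝒮 p chart n L lam :=
  ⟨_, _, isRelTwist_twistMod hP n⟩

end Groth.Agent.RelProj34
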