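import Groth.Agent.RelProj34.EmbedAmple
import Groth.Agent.RelProj34.TwistExist
import Groth.Agent.RelProj34.ProjMor
import Groth.Agent.Proj16.RelIntegral

/-!
# Projective morphisms are proper and quasi-projective
-/

universe u

open CategoryTheory CategoryTheory.Limits AlgebraicGeometry TopologicalSpace Opposite
open scoped HomogeneousIdeal

noncomputable section

namespace Groth.Agent.RelProj34

theorem isProper_projBundle {Y P : Scheme.{u}} {E : Y.Modules} (hE : Coh.IsQCoh E) (hft : CohB1.IsFT E)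
    {𝒯 : RelProj.QCGrAlg Y} {j : E ⟶ 𝒯.toModule} (hj : RelProj.IsGrSymAlg E 𝒯 j) {p : P ⟶ Y}
    {chart : ∀ (U : Y.Opens) (hU : IsAffineOpen U), ((p ⁻¹ᵁ U : P.Opens) : Scheme.{u}) ≅ Proj (𝒯.deg U hU)}
    (hP : RelProj.IsRelProj 𝒯 p chart) : IsProper p :=
  Proj16.of_affineOpens hP @IsProper fun U hU => by
    obtain ⟨T, -, hT⟩ := isFTDeg_one_sym hE hft hj U hU
    have : Algebra.FiniteType (𝒯.deg U hU 0) (𝒯.presheaf.obj (op U)) :=
      ⟨⟨T, Proj16.adjoin_degOne_eq_top (SymAlgX.isGenDegOne hE hj) U hU hT⟩⟩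
    have : IsClosedImmersion (Spec.map (𝒯.strZero U hU)) := by
      refine IsClosedImmersion.spec_of_surjective _ fun a => ?_
      obtain ⟨r, hr⟩ := SymAlgX.exists_of_mem_deg_zero hE hj U hU a.2
      exact ⟨r, Subtype.ext hr⟩
    infer_instance

theorem isProper_of_isProjective {X Y : Scheme.{u}} {f : X ⟶ Y} (hf : RelProj.IsProjective f) : IsProper f := by
  obtain ⟨E, 𝒯, j, P, p, chart, i, hE, hft, hj, hP, hi, hip⟩ := exists_closedImmersion_of_isProjective hf
  have := isProper_projBundle hE hft hj hP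
  rw [← hip]
  infer_instance

theorem isQuasiProjective_of_isProjective {X Y : Scheme.{u}} {f : X ⟶ Y} (hf : RelProj.IsProjective f) :
    RelProj.IsQuasiProjective f := by
  have := isProper_of_isProjective hf
  obtain ⟨E, 𝒯, j, P, p, chart, i, hE, -, hj, hP, hi, hip⟩ := exists_closedImmersion_of_isProjective hf
  obtain ⟨O1, lam, hO1⟩ := exists_isRelTwist hP 1
  exact ⟨inferInstance, inferInstance, _,
    isRelAmple_pullback_of_isEmbedding hE hj hP hO1 i hip i.isEmbedding⟩

end Groth.Agent.RelProj34
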