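import Groth.Agent.RelProj34.QPImm
import Groth.Agent.RelProj34.ProjMor
import Groth.Agent.RLPsi35.VAImm
import Groth.Agent.RelProj34.QHomMap

/-!
# Proper quasi-projective morphisms are projective
-/

universe u

open CategoryTheory CategoryTheory.Limits AlgebraicGeometry TopologicalSpace Opposite

noncomputable section

namespace Groth.Agent.RelProj34

variable {X Y : Scheme.{u}} {f : X ⟶ Y}

theorem isProjective_of_immersion_projBundle [IsProper f] {E : Y.Modules} (hE : Coh.IsQCoh E)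
    (hft : CohB1.IsFT E) {𝒯 : RelProj.QCGrAlg Y} {j : E ⟶ 𝒯.toModule} (hj : RelProj.IsGrSymAlg E 𝒯 j)
    {P : Scheme.{u}} {p : P ⟶ Y}
    {chart : ∀ (U : Y.Opens) (hU : IsAffineOpen U), ((p ⁻¹ᵁ U : P.Opens) : Scheme.{u}) ≅ Proj (𝒯.deg U hU)}
    (hP : RelProj.IsRelProj 𝒯 p chart) (i : X ⟶ P) [IsImmersion i] (hi : i ≫ p = f) :
    RelProj.IsProjective f := by
  have := Proj16.isSeparated hP
  have : IsProper (i ≫ p) := by rw [hi]; infer_instance
  have : IsProper i := IsProper.of_comp i p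
  have : IsClosedImmersion i := IsClosedImmersion.of_isPreimmersion i i.isClosedMap.isClosed_range
  exact isProjective_of_closedImmersion hE hft hj hP i hi

theorem isProjective_of_isProper_of_isQuasiProjective [CompactSpace Y] [QuasiSeparatedSpace Y] [IsProper f]
    (hq : RelProj.IsQuasiProjective f) : RelProj.IsProjective f := by
  obtain ⟨-, -, L, hL⟩ := hq
  obtain ⟨E, hE, hft, 𝒯, jE, hj, P, p, chart, hP, i, hi, hip⟩ := exists_immersion_projBundle hL
  exact isProjective_of_immersion_projBundle hE hft hj hP i hip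

theorem isProjective_of_isRelVeryAmple [IsProper f] {L : X.Modules} (hL : PicF.IsInvertible L)
    (hva : RelProj.IsRelVeryAmple f L) (hft : CohB1.IsFT ((Scheme.Modules.pushforward f).obj L)) :
    RelProj.IsProjective f := by
  have hLq : Coh.IsQCoh L := ProjUPX.isQCoh_of_isInvertible hL
  have hEq := QCoh.isQCoh_pushforward f hLq
  obtain ⟨𝒮L, jL, hjL⟩ := SymAlgX.exists_isGrSymAlg L hLq
  obtain ⟨PL, pL, chartL, hPL⟩ := Proj16.exists_isRelProj (𝒮 := 𝒮L)
  obtain ⟨𝒜, jA, h𝒜⟩ := SymAlgX.exists_isGrSymAlg _ hEq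
  obtain ⟨P, p, chart, hP⟩ := Proj16.exists_isRelProj (𝒮 := 𝒜)
  obtain ⟨u, hu⟩ := exists_qGrHom_of_map f hEq h𝒜 (𝟙 _) hjL.2
  obtain ⟨r, hr, -⟩ := ProjQMapX.existsUnique_isProjQMapOn u hP hPL
  obtain ⟨htop, himm⟩ := RLPsi35.isImmersion_of_isRelVeryAmple hLq hjL hPL hL hEq h𝒜 hu hP hr hva
  have := RLPsi35.isIso_pL hLq hjL hPL hL
  have := ProjQMapX.isIso_ι_of_eq_top htop
  exact isProjective_of_immersion_projBundle hEq hft h𝒜 hP
    (inv ((RelProj.domQ u pL chartL).ι ≫ pL) ≫ r)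
    (by rw [Category.assoc, IsIso.inv_comp_eq, ProjQMapX.isProjQMapOn_comp hP hPL hr, Category.assoc])

theorem quasiSeparatedSpace_of_noetherianSpace (h : NoetherianSpace Y) : QuasiSeparatedSpace Y :=
  ⟨fun U V _ _ _ _ => h.isCompact _⟩

end Groth.Agent.RelProj34
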