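import Groth.Agent.LimMor.ChowLim
import Groth.Agent.Ega2Va.Main
import Groth.Agent.RelProj34.QPProj
import Groth.Agent.RelProj34.ProjProper

/-!
# Chow's lemma with projective and quasi-projective morphisms
-/

universe u

set_option backward.isDefEq.respectTransparency false
set_option backward.isDefEq.respectTransparency.types false

open CategoryTheory CategoryTheory.Limits AlgebraicGeometry TopologicalSpace Opposite

noncomputable section

namespace Groth.Agent.RelProj34

/-- An immersion into projective space over the base makes a morphism quasi-projective. -/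
theorem isQuasiProjective_of_immersion_projSpaceOver {X S : Scheme.{u}} {g : X ⟶ S} {N : ℕ}
    [LocallyOfFiniteType g] [QuasiCompact g]
    (j : X ⟶ CohB1.ProjSpaceOver N S) [IsImmersion j] (hj : j ≫ CohB1.ProjSpaceOver.toBase N S = g) :
    RelProj.IsQuasiProjective g :=
  ⟨inferInstance, inferInstance, _,
    Ega2Va.isRelAmple_of_veryAmplePn g (L := (Scheme.Modules.pullback j).obj (Twist.twistOver N S 1))
      ⟨N, j, inferInstance, hj, ⟨Iso.refl _⟩⟩⟩

/-- A proper modification, quasi-projective over the base, is projective. -/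
theorem projective_of_modification {X X' S : Scheme.{u}} {f : X ⟶ S} {π : X' ⟶ X} [CompactSpace S]
    [QuasiSeparatedSpace S] [IsSeparated f] [QuasiCompact f] [IsProper π]
    (h : RelProj.IsQuasiProjective (π ≫ f)) : RelProj.IsProjective π := by
  have : CompactSpace X := QuasiCompact.compactSpace_of_compactSpace f
  have : QuasiSeparatedSpace X := quasiSeparatedSpace_of_quasiSeparated f
  obtain ⟨-, -, L, hL⟩ := h
  exact isProjective_of_isProper_of_isQuasiProjective
    ⟨inferInstance, inferInstance, L, AmpleX.isRelAmple_of_comp f hL⟩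

theorem exists_chow_nonempty {X S : Scheme.{u}} (f : X ⟶ S) [CompactSpace S] [QuasiSeparatedSpace S]
    [IsSeparated f] [LocallyOfFiniteType f] [QuasiCompact f] [Nonempty X] :
    ∃ (Xbar : Scheme.{u}) (π : Xbar ⟶ X), RelProj.IsProjective π ∧ RelProj.IsQuasiProjective (π ≫ f) ∧
      ∃ U : X.Opens, (U : Set X).Nonempty ∧ IsIso (π ∣_ U) := by
  obtain ⟨X₁, S₁, g, s, f₁, w, hX₁, hf₁, hgqc, hg, hci, -⟩ :=
    LimMor.exists_approx_data f (κ := Fin 0) Fin.elim0 (fun c => c.elim0)
  obtain ⟨N, X₁', π₁, j₁, hj, hjf, hπ, -, U₁, hU₁, hiso⟩ := LimMor.exists_chow_ftz f₁ hX₁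
  have : IsProper (pullback.fst g π₁) := MorphismProperty.pullback_fst (P := @IsProper) _ _ hπ
  have hqp : RelProj.IsQuasiProjective (pullback.fst g π₁ ≫ f) := by
    have := LimMor.isImmersion_bc (w := w) (f := f) (s := s) _ _ _
      (specULiftZIsTerminal.hom_ext (s ≫ specULiftZIsTerminal.from S₁) (specULiftZIsTerminal.from S))
      π₁ j₁ hjf (specULiftZIsTerminal.hom_ext _ _)
    exact @isQuasiProjective_of_immersion_projSpaceOver _ _ (pullback.fst g π₁ ≫ f) N inferInstance inferInstance
      _ this (pullback.lift_snd _ _ _)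
  refine ⟨_, pullback.fst g π₁, projective_of_modification hqp, hqp, g ⁻¹ᵁ U₁, ?_,
    LimMor.isIso_restrict_bc g π₁ U₁⟩
  obtain ⟨x₀⟩ := ‹Nonempty X›
  obtain ⟨z, -, hz⟩ := hU₁.inter_open_nonempty _ isOpen_univ ⟨g x₀, trivial⟩
  obtain ⟨y, hy⟩ := g.denseRange.exists_mem_open U₁.2 ⟨z, hz⟩
  exact ⟨y, hy⟩

end Groth.Agent.RelProj34
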