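import Groth.Agent.RelProj34.Chow
import Groth.Agent.ExistEasy.ChowNR.Basic
import Groth.Agent.QCoh.ProperOver
import Groth.Agent.QCoh.ExtendFT

/-!
# Chow's lemma with density
-/

universe u

set_option backward.isDefEq.respectTransparency false
set_option backward.isDefEq.respectTransparency.types false

open CategoryTheory CategoryTheory.Limits AlgebraicGeometry TopologicalSpace Opposite

noncomputable section

namespace Groth.Agent.RelProj34

/-- A quasi-compact dense open inside a dense open. -/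
theorem exists_compact_dense_le {X : Scheme.{u}} (hfin : (irreducibleComponents X).Finite) {U : X.Opens}
    (hU : Dense (U : Set X)) : ∃ U' : X.Opens, U' ≤ U ∧ IsCompact (U' : Set X) ∧ Dense (U' : Set X) := by
  classical
  have := hfin.to_subtype
  have key : ∀ Z : irreducibleComponents X, ∃ W : X.Opens, IsCompact (W : Set X) ∧ W ≤ U ∧
      Z.1 ⊆ closure (W : Set X) := fun Z => by
    let S : Set (Set X) := irreducibleComponents X \ {Z.1}
    let O : X.Opens := ⟨(⋃₀ S)ᶜ, (show IsClosed (⋃₀ S) by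
      rw [Set.sUnion_eq_biUnion]
      exact hfin.sdiff.isClosed_biUnion fun s hs => isClosed_of_mem_irreducibleComponents _ hs.1).isOpen_compl⟩
    have hOZ : (O : Set X) ⊆ Z.1 := fun x hx => by
      by_contra hne
      exact hx ⟨irreducibleComponent x, ⟨irreducibleComponent_mem_irreducibleComponents x,
        fun h => hne ((Set.mem_singleton_iff.1 h) ▸ mem_irreducibleComponent)⟩, mem_irreducibleComponent⟩
    have hOne : (O : Set X).Nonempty := by
      by_contra hempty
      have hsub : Z.1 ⊆ ⋃₀ ((hfin.sdiff (t := {Z.1})).toFinset : Set (Set X)) := by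
        rw [Set.Finite.coe_toFinset]
        exact fun x _ => not_not.1 fun hx => hempty ⟨x, hx⟩
      obtain ⟨T, hT, hZT⟩ := (isIrreducible_iff_sUnion_isClosed.1 Z.2.1) _
        (fun z hz => isClosed_of_mem_irreducibleComponents _ ((Set.Finite.mem_toFinset _).1 hz).1) hsub
      have hT' := (Set.Finite.mem_toFinset _).1 hT
      exact hT'.2 (Set.Subset.antisymm (Z.2.2 hT'.1.1 hZT) hZT)
    obtain ⟨x, hxO, hxU⟩ := hU.inter_open_nonempty _ O.2 hOne
    obtain ⟨W, hW, hxW, hWO⟩ := exists_isAffineOpen_mem_and_subset (x := x) (U := O ⊓ U) ⟨hxO, hxU⟩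
    refine ⟨W, hW.isCompact, fun y hy => (hWO hy).2, ?_⟩
    exact (subset_closure_inter_of_isPreirreducible_of_isOpen Z.2.1.2 W.2
      ⟨x, hOZ hxO, hxW⟩).trans (closure_mono Set.inter_subset_right)
  choose W hWc hWU hWd using key
  refine ⟨⨆ Z, W Z, iSup_le hWU, ?_, fun x => ?_⟩
  · rw [Opens.coe_iSup]
    exact isCompact_iUnion hWc
  · exact closure_mono (by rw [Opens.coe_iSup]; exact Set.subset_iUnion (fun Z => (W Z : Set X)) _)
      (hWd ⟨_, irreducibleComponent_mem_irreducibleComponents x⟩ mem_irreducibleComponent)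

theorem isReduced_image {V X : Scheme.{u}} (g : V ⟶ X) [QuasiCompact g] [IsReduced V] : IsReduced g.image := by
  have : ∀ O : g.image.Opens, _root_.IsReduced Γ(g.image, O) := fun O =>
    isReduced_of_injective (g.toImage.app O).hom (ExistEasy.ChowNR.toImage_app_injective' g O)
  exact ⟨this⟩

/-- The closed closure of an open has nothing new over it. -/
theorem isIso_imageι_restrict {X : Scheme.{u}} (V : X.Opens) [QuasiCompact V.ι] :
    IsIso (V.ι.imageι ∣_ V) := by
  let i := V.ι.imageι
  let s : V.toScheme ⟶ (i ⁻¹ᵁ V).toScheme := IsOpenImmersion.lift (i ⁻¹ᵁ V).ι V.ι.toImage (by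
    rw [Scheme.Opens.range_ι]
    rintro _ ⟨v, rfl⟩
    show (V.ι.toImage ≫ i) v ∈ V
    rw [V.ι.toImage_imageι]
    exact v.2)
  have hs : s ≫ (i ∣_ V) = 𝟙 _ := by
    rw [← cancel_mono V.ι, Category.assoc, morphismRestrict_ι, IsOpenImmersion.lift_fac_assoc,
      V.ι.toImage_imageι, Category.id_comp]
  haveI : IsClosedImmersion (i ∣_ V) := IsZariskiLocalAtTarget.restrict (P := @IsClosedImmersion) inferInstance V
  exact ⟨⟨s, by rw [← cancel_mono (i ∣_ V), Category.assoc, hs, Category.comp_id, Category.id_comp], hs⟩⟩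

/-- Chow's lemma. -/
theorem exists_chow_dense {X S : Scheme.{u}} (r : X ⟶ S) [CompactSpace S] [QuasiSeparatedSpace S]
    [IsSeparated r] [LocallyOfFiniteType r] [QuasiCompact r] (hfin : (irreducibleComponents X).Finite) :
    ∃ (X' : Scheme.{u}) (f : X' ⟶ X),
      RelProj.IsQuasiProjective (f ≫ r) ∧ RelProj.IsProjective f ∧ Surjective f ∧
      (∃ U : X.Opens, Dense (U : Set X) ∧ Dense ((f ⁻¹ᵁ U : X'.Opens) : Set X') ∧ IsIso (f ∣_ U)) ∧
      (IsReduced X → IsReduced X') ∧ (IrreducibleSpace X → IrreducibleSpace X') := by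
  obtain ⟨N, X₀, π, j, hj, hjf, hπ, -, hU⟩ := LimMor.exists_chow r
  obtain ⟨U₀, hU₀, hiso₀⟩ := hU hfin
  have : CompactSpace X := QuasiCompact.compactSpace_of_compactSpace r
  have : QuasiSeparatedSpace X := quasiSeparatedSpace_of_quasiSeparated r
  obtain ⟨U, hUU₀, hUc, hUd⟩ := exists_compact_dense_le hfin hU₀
  have hiso : IsIso (π ∣_ U) :=
    IsZariskiLocalAtTarget.restrict (P := MorphismProperty.isomorphisms Scheme) (f := π ∣_ U₀) hiso₀
      (U₀.ι ⁻¹ᵁ U) |> fun h =>
        ((MorphismProperty.isomorphisms Scheme).arrow_mk_iso_iff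
          (morphismRestrictRestrict π U₀ (U₀.ι ⁻¹ᵁ U) ≪≫ morphismRestrictEq π (by
            rw [Scheme.Hom.image_preimage_eq_opensRange_inf, Scheme.Opens.opensRange_ι,
              inf_eq_right.2 hUU₀]))).1 h
  let V : X₀.Opens := π ⁻¹ᵁ U
  have : QuasiSeparatedSpace X₀ := quasiSeparatedSpace_of_quasiSeparated π
  have : QuasiCompact V.ι := QCoh.quasiCompact_ι_of_compact V (π.isCompact_preimage hUc)
  let i := V.ι.imageι
  let f := i ≫ π
  have hpre : f ⁻¹ᵁ U = i ⁻¹ᵁ V := rfl
  have hisoi : IsIso (i ∣_ V) := isIso_imageι_restrict V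
  have hisof : IsIso (f ∣_ U) := by
    rw [show f ∣_ U = (i ∣_ V) ≫ (π ∣_ U) from morphismRestrict_comp i π U]
    infer_instance
  have hrange : Set.range V.ι.toImage ⊆ ((f ⁻¹ᵁ U : _) : Set V.ι.image) := by
    rintro _ ⟨v, rfl⟩
    show (V.ι.toImage ≫ i) v ∈ V
    rw [V.ι.toImage_imageι]
    exact v.2
  have hdense : Dense ((f ⁻¹ᵁ U : _) : Set V.ι.image) := V.ι.toImage.denseRange.mono hrange
  have hsurj : Surjective f := by
    refine ⟨fun x => ?_⟩
    have hcl : IsClosed (Set.range f) := f.isClosedMap.isClosed_range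
    have hsub : (U : Set X) ⊆ Set.range f := fun y hy => by
      obtain ⟨z, hz⟩ := (f ∣_ U).surjective ⟨y, hy⟩
      exact ⟨(f ⁻¹ᵁ U).ι z, by rw [← Scheme.Hom.comp_apply, ← morphismRestrict_ι, Scheme.Hom.comp_apply, hz]; rfl⟩
    exact closure_minimal hsub hcl (hUd x)
  have hqp : RelProj.IsQuasiProjective (f ≫ r) :=
    isQuasiProjective_of_immersion_projSpaceOver (i ≫ j) (by rw [Category.assoc, hjf, Category.assoc])
  refine ⟨_, f, hqp, projective_of_modification hqp, hsurj, ⟨U, hUd, hdense, hisof⟩, fun hred => ?_,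
    fun hirr => ?_⟩
  · have : IsReduced U.toScheme := isReduced_of_isOpenImmersion U.ι
    have : IsReduced V.toScheme := isReduced_of_isOpenImmersion (asIso (π ∣_ U)).hom
    exact isReduced_image V.ι
  · have : Nonempty X := inferInstance
    obtain ⟨x, -, hx⟩ := hUd.inter_open_nonempty _ isOpen_univ Set.univ_nonempty
    have : IrreducibleSpace U.toScheme := by
      have h1 : IsIrreducible (U : Set X) := ⟨⟨x, hx⟩,
        (PreirreducibleSpace.isPreirreducible_univ (X := X)).open_subset U.2 (Set.subset_univ _)⟩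
      exact isIrreducible_iff_irreducibleSpace.mp h1
    let g : U.toScheme ⟶ V.ι.image := inv (π ∣_ U) ≫ V.ι.toImage
    have hg : DenseRange g.base := by
      have : IsDominant g := inferInstance
      exact this.denseRange
    have h1 : IsIrreducible (Set.range g.base) :=
      Set.image_univ ▸ (IrreducibleSpace.isIrreducible_univ _).image _ g.continuous.continuousOn
    rw [irreducibleSpace_def]
    have h2 := h1.closure
    rwa [hg.closure_range] at h2

end Groth.Agent.RelProj34
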