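import Groth.Agent.RelProj34.ChowFull

/-!
# The hypotheses of Chow's lemma
-/

universe u

open CategoryTheory CategoryTheory.Limits AlgebraicGeometry TopologicalSpace

namespace Groth.Agent.RelProj34

/-- The two cases of Chow's lemma give a qcqs base and finitely many components. -/
theorem chow_hyp {X S : Scheme.{u}} (r : X ⟶ S) [LocallyOfFiniteType r] [QuasiCompact r]
    (h : IsNoetherian S ∨ (CompactSpace S ∧ S.IsSeparated ∧ (irreducibleComponents X).Finite)) :
    CompactSpace S ∧ QuasiSeparatedSpace S ∧ (irreducibleComponents X).Finite := by
  rcases h with h | ⟨h₁, h₂, h₃⟩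
  · have : IsLocallyNoetherian X := LocallyOfFiniteType.isLocallyNoetherian r
    have : CompactSpace X := QuasiCompact.compactSpace_of_compactSpace r
    have : IsNoetherian X := { }
    exact ⟨inferInstance, inferInstance, NoetherianSpace.finite_irreducibleComponents⟩
  · exact ⟨h₁, inferInstance, h₃⟩

end Groth.Agent.RelProj34
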