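import Groth.Agent.RelProj34.KerFam
import Groth.Agent.ProjQMapX.Ident

/-!
# Closed subschemes of a relative `Proj` are relative `Proj`s of graded quotients
-/

set_option autoImplicit false
set_option linter.style.haveILetI false
set_option linter.unusedSectionVars false

universe u

open CategoryTheory CategoryTheory.Limits AlgebraicGeometry TopologicalSpace Opposite HomogeneousLocalization
open scoped HomogeneousIdeal

noncomputable section

namespace Groth.Agent.RelProj34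

variable {P PB : Scheme.{u}}

/-- The ideal of a morphism on a cartesian chart. -/
theorem kerPull_ker {R R' : CommRingCat.{u}} (j : Spec R ⟶ P) [IsOpenImmersion j] (h : PB ⟶ P)
    [QuasiCompact h] (c : Spec R' ⟶ PB) [IsOpenImmersion c] (ψ : R ⟶ R')
    (sq : IsPullback c (Spec.map ψ) h j) : kerPull j h.ker = RingHom.ker ψ.hom := by
  have hrange : h ⁻¹ᵁ j.opensRange = c.opensRange := by
    apply Opens.ext
    rw [← IsOpenImmersion.range_pullbackFst, Scheme.Hom.coe_opensRange, ← sq.isoPullback_hom_fst,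
      Scheme.Hom.comp_base, TopCat.coe_comp]
    exact (Function.Surjective.range_comp (Scheme.Hom.surjective sq.isoPullback.hom) _).symm
  have e1 : c.opensRange ≤ h ⁻¹ᵁ j.opensRange := hrange.ge
  have key : secMapJ j ≫ ψ = h.appLE j.opensRange c.opensRange e1 ≫ secMapJ c := by
    rw [secMapJ, secMapJ, Category.assoc, ← Scheme.ΓSpecIso_naturality ψ, ← Category.assoc, ← Category.assoc]
    congr 1
    rw [Scheme.Hom.appTop, Scheme.Hom.app_eq_appLE, Scheme.Hom.appLE_comp_appLE]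
    refine (Scheme.Hom.appLE_comp_appLE _ _ _ _ _ _ _).trans ?_
    simp only [sq.w]
    rfl
  have h3 : RingHom.ker (h.appLE j.opensRange c.opensRange e1).hom = RingHom.ker (h.app j.opensRange).hom := by
    have hi : IsIso (PB.presheaf.map (homOfLE e1).op) := by
      have hg : ∀ (W : PB.Opens) (e : c.opensRange ≤ W), W = c.opensRange →
          IsIso (PB.presheaf.map (homOfLE e).op) := fun W e hW => by
        subst hW
        rw [show (homOfLE e).op = 𝟙 _ from rfl, CategoryTheory.Functor.map_id]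
        infer_instance
      exact hg _ e1 hrange
    rw [Scheme.Hom.appLE, CommRingCat.hom_comp,
      RingHom.ker_comp_of_injective _ ((ConcreteCategory.isIso_iff_bijective _).1 hi).1]
  rw [kerPull, Scheme.Hom.ker_apply]
  change (RingHom.ker (h.app j.opensRange).hom).map (secMapJ j).hom = _
  rw [← h3, ← RingHom.ker_comp_of_injective _ (secMapJ_bijective c).1, ← CommRingCat.hom_comp, ← key,
    CommRingCat.hom_comp, ← RingHom.comap_ker, Ideal.map_comap_of_surjective _ (secMapJ_bijective j).2]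

theorem kerPull_injective {R : CommRingCat.{u}} (j : Spec R ⟶ P) [IsOpenImmersion j] {I J : P.IdealSheafData}
    (h : kerPull j I = kerPull j J) : I.ideal (chartOpen j) = J.ideal (chartOpen j) := by
  have h' := congrArg (Ideal.comap (secMapJ j).hom) h
  rwa [kerPull, kerPull, Ideal.comap_map_of_bijective _ (secMapJ_bijective j),
    Ideal.comap_map_of_bijective _ (secMapJ_bijective j)] at h'

variable {S : Scheme.{u}}

theorem exists_pos_degree_notMem {A σ : Type u} [CommRing A] [SetLike σ A] [AddSubgroupClass σ A]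
    (𝒞 : ℕ → σ) [GradedRing 𝒞] (w : Proj 𝒞) :
    ∃ (d : ℕ) (f : A), 0 < d ∧ f ∈ 𝒞 d ∧ w ∈ Proj.basicOpen 𝒞 f := by
  obtain ⟨a, ha, hwa⟩ := SetLike.not_le_iff_exists.mp w.not_irrelevant_le
  exact ProjQMapX.exists_homogeneous_of_mem_irrelevant
    (GradedRingHom.id 𝒞) (I := w.asHomogeneousIdeal.toIdeal) ha hwa


variable {𝒜 : RelProj.QCGrAlg S} {p : P ⟶ S}
  {chart : ∀ (U : S.Opens) (hU : IsAffineOpen U), (((p ⁻¹ᵁ U : P.Opens) : Scheme.{u}) ≅ Proj (𝒜.deg U hU))}
  (hP : RelProj.IsRelProj 𝒜 p chart)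

omit hP in
theorem exists_mem_jchart (U : S.Opens) (hU : IsAffineOpen U) {x : P} (hx : p x ∈ U) :
    ∃ (d : ℕ) (hd : 0 < d) (f : 𝒜.presheaf.obj (op U)) (hf : f ∈ 𝒜.deg U hU d),
      x ∈ (jchart p chart U hU hd hf).opensRange := by
  obtain ⟨w, hw⟩ := ProjQMapX.exists_emb_eq (𝒮 := 𝒜) (p := p) (chart := chart) U hU hx
  obtain ⟨d, f, hd, hf, hwf⟩ := exists_pos_degree_notMem (σ := AddSubgroup (𝒜.presheaf.obj (op U))) (𝒜.deg U hU) w
  refine ⟨d, hd, f, hf, ?_⟩
  show x ∈ Set.range (Proj.awayι (𝒜.deg U hU) f hf hd ≫ RelProj.emb p chart U hU)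
  rw [ProjQMapX.range_toP_base U hU hd hf]
  exact ⟨w, hwf, hw⟩

include hP in
theorem ker_eq_of_kerPull (I J : P.IdealSheafData)
    (H : ∀ (U : S.Opens) (hU : IsAffineOpen U) (d : ℕ) (hd : 0 < d) (f : 𝒜.presheaf.obj (op U))
      (hf : f ∈ 𝒜.deg U hU d), kerPull (jchart p chart U hU hd hf) I = kerPull (jchart p chart U hU hd hf) J) :
    I = J := by
  refine Scheme.IdealSheafData.ext_of_iSup_eq_top
    (fun t : Σ' (U : S.Opens) (hU : IsAffineOpen U) (d : ℕ) (_ : 0 < d) (f : 𝒜.presheaf.obj (op U)),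
        f ∈ 𝒜.deg U hU d => chartOpen (jchart p chart t.1 t.2.1 t.2.2.2.1 t.2.2.2.2.2)) ?_ fun t => ?_
  · refine eq_top_iff.2 fun x _ => ?_
    obtain ⟨_, ⟨U, hU₀, rfl⟩, hxU, -⟩ := S.isBasis_affineOpens.exists_subset_of_mem_open
      (Set.mem_univ (p x)) isOpen_univ
    have hU : IsAffineOpen U := hU₀
    obtain ⟨d, hd, f, hf, hx⟩ := exists_mem_jchart (p := p) (chart := chart) U hU (show p x ∈ U from hxU)
    exact Opens.mem_iSup.2 ⟨⟨U, hU, d, hd, f, hf⟩, hx⟩
  · obtain ⟨U, hU, d, hd, f, hf⟩ := t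
    exact kerPull_injective (jchart p chart U hU hd hf) (H U hU d hd f hf)

include hP in
theorem kerPull_h {ℬ : RelProj.QCGrAlg S} (φ : 𝒜.toQCAlg ⟶ ℬ.toQCAlg) (hφ : RelProj.IsGradedHom φ)
    {pB : PB ⟶ S}
    {chartB : ∀ (U : S.Opens) (hU : IsAffineOpen U), (((pB ⁻¹ᵁ U : PB.Opens) : Scheme.{u}) ≅ Proj (ℬ.deg U hU))}
    (hB : RelProj.IsRelProj ℬ pB chartB) {h : PB ⟶ P} [QuasiCompact h]
    (hh : RelProj.IsProjQMap (RelProj.QGrHom.ofHom φ hφ) p chart pB chartB h)
    {U : S.Opens} (hU : IsAffineOpen U) {d : ℕ} (hd : 0 < d) {f : 𝒜.presheaf.obj (op U)}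
    (hf : f ∈ 𝒜.deg U hU d) :
    kerPull (jchart p chart U hU hd hf) h.ker =
      RingHom.ker (Away.map (RelProj.gradedHomAt φ hφ U hU) f) := by
  haveI := ProjQMapX.isIso_ι_of_eq_top hh.1
  let c : ProjQMapX.Chart (RelProj.QGrHom.ofHom φ hφ) := ⟨U, hU, U, hU, le_rfl, d, hd, f, hf⟩
  have sq0 := ProjQMapX.isPullback_chart hP hB (ProjQMapX.isProjQMap_iff.mp hh).2 c rfl
  have sq : IsPullback (c.emb pB chartB)
      (Spec.map (CommRingCat.ofHom (Away.map ((RelProj.QGrHom.ofHom φ hφ).gradedAt U hU U hU le_rfl) f)))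
      h (jchart p chart U hU hd hf) :=
    sq0.of_iso (Iso.refl _) (asIso (RelProj.domQ (RelProj.QGrHom.ofHom φ hφ) pB chartB).ι) (Iso.refl _)
      (Iso.refl _) (by rw [Iso.refl_hom, Category.id_comp, asIso_hom, c.lift_ι])
      (by rw [Iso.refl_hom, Iso.refl_hom, Category.id_comp, Category.comp_id])
      (by rw [Iso.refl_hom, asIso_hom, Category.comp_id])
      ((Category.comp_id _).trans (Category.id_comp _).symm)
  haveI : IsOpenImmersion (c.emb pB chartB) := inferInstance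
  rw [kerPull_ker (jchart p chart U hU hd hf) h (c.emb pB chartB) _ sq, CommRingCat.hom_ofHom]
  rw [← ProjQMapX.ofHom_gradedAt φ hφ U hU]

theorem exists_quotient {Z : Scheme.{u}} (𝒜 : RelProj.QCGrAlg S) (p : P ⟶ S)
    (chart : ∀ (U : S.Opens) (hU : IsAffineOpen U), (((p ⁻¹ᵁ U : P.Opens) : Scheme.{u}) ≅ Proj (𝒜.deg U hU)))
    (hP : RelProj.IsRelProj 𝒜 p chart) [QuasiCompact p] (i : Z ⟶ P) [IsClosedImmersion i] :
    ∃ (ℬ : RelProj.QCGrAlg S) (φ : 𝒜.toQCAlg ⟶ ℬ.toQCAlg) (hφ : RelProj.IsGradedHom φ) (PB : Scheme.{u})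
      (pB : PB ⟶ S) (chartB : ∀ (U : S.Opens) (hU : IsAffineOpen U), (((pB ⁻¹ᵁ U : PB.Opens) : Scheme.{u}) ≅ Proj (ℬ.deg U hU)))
      (h : PB ⟶ P) (e : PB ≅ Z),
      (∀ (U : S.Opens), IsAffineOpen U → Function.Surjective (φ.hom.app (op U)).hom) ∧
        RelProj.IsRelProj ℬ pB chartB ∧ RelProj.IsProjQMap (RelProj.QGrHom.ofHom φ hφ) p chart pB chartB h ∧
        e.hom ≫ i = h := by
  let K := idealFam p chart i.ker hP
  obtain ⟨PB, pB, chartB, hB⟩ := Proj16.exists_isRelProj K.qAlg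
  have hφ := K.isGradedHom_qMap
  have hsurj : ∀ (U : S.Opens) (hU : IsAffineOpen U),
      Function.Surjective (RelProj.gradedHomAt K.qMap hφ U hU) := fun U hU => K.proj_surjective U hU
  have htop : RelProj.domQ (RelProj.QGrHom.ofHom K.qMap hφ) pB chartB = ⊤ :=
    ProjQMapX.domQ_ofHom_eq_top _ hφ fun U hU w =>
      ProjQMapX.mem_domOpen_of_TN _ (n := 0)
        (fun _ _ _ hy => exists_homogeneous_preimage _ _ (hsurj U hU) hy) w
  obtain ⟨h, hh, -⟩ := ProjQMapX.existsUnique_isProjQMap hP hB htop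
  have hh2 := (ProjQMapX.isProjQMap_iff.mp hh).2
  haveI := ProjQMapX.isIso_ι_of_eq_top htop
  haveI : IsClosedImmersion h := (MorphismProperty.cancel_left_of_respectsIso @IsClosedImmersion _ h).mp
    (ProjQMapX.of_charts_ofHom K.qMap hφ hP hB hh2 @IsClosedImmersion
      fun U hU d hd f hf => IsClosedImmersion.spec_of_surjective _
        (awayMap_surjective _ _ (hsurj U hU) hd hf))
  have hker : h.ker = i.ker := ker_eq_of_kerPull (hP := hP) h.ker i.ker fun U hU d hd f hf => by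
    rw [← ker_awayMap i.ker hP U hU hd hf]
    exact kerPull_h hP K.qMap hφ hB hh hU hd hf
  haveI := IsClosedImmersion.isIso_lift i h hker.symm
  exact ⟨K.qAlg, K.qMap, hφ, PB, pB, chartB, h, asIso (IsClosedImmersion.lift i h hker.symm.le),
    fun U hU => hsurj U hU, hB, hh, IsClosedImmersion.lift_fac i h _⟩

end Groth.Agent.RelProj34
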