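import Groth.Agent.RelProj34.EmbedAmple
import Groth.Agent.AmpleX.Sect

/-!
# An epimorphic counit from generating sections
-/

universe u

set_option backward.isDefEq.respectTransparency false
set_option backward.isDefEq.respectTransparency.types false

open CategoryTheory CategoryTheory.Limits AlgebraicGeometry TopologicalSpace Opposite

noncomputable section

namespace Groth.Agent.RelProj34

variable {X Y : Scheme.{u}}

theorem epi_adjoint_of_exists_locus (f : X ⟶ Y) {E : Y.Modules} (M : X.Modules)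
    (φ : E ⟶ (Scheme.Modules.pushforward f).obj M)
    (h : ∀ x : X, ∃ (V : Y.Opens) (e : Γ(E, V)), x ∈ AmpleX.locus (show Γ(M, f ⁻¹ᵁ V) from φ.app V e)) :
    Epi (((Scheme.Modules.pullbackPushforwardAdjunction f).homEquiv E M).symm φ) := by
  refine ⟨fun {N} g g' hgg => ?_⟩
  change M ⟶ N at g g'
  let adj := Scheme.Modules.pullbackPushforwardAdjunction f
  have hpush : φ ≫ (Scheme.Modules.pushforward f).map g = φ ≫ (Scheme.Modules.pushforward f).map g' := by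
    have h1 := congrArg (adj.homEquiv _ _) hgg
    rwa [Adjunction.homEquiv_naturality_right, Adjunction.homEquiv_naturality_right, Equiv.apply_symm_apply] at h1
  refine Scheme.Modules.hom_ext _ _ fun W => ?_
  ext c
  refine AModX.eq_of_locally _ _ fun x hx => ?_
  obtain ⟨V, e, hxa⟩ := h x
  let a : Γ(M, f ⁻¹ᵁ V) := φ.app V e
  refine ⟨W ⊓ AmpleX.locus a, inf_le_left, ⟨hx, hxa⟩, ?_⟩
  have he := AmpleX.isFrame_res_of_le a (inf_le_right : W ⊓ AmpleX.locus a ≤ AmpleX.locus a)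
  obtain ⟨r, hr⟩ := he.exists_coord le_rfl (AModX.res M inf_le_left c)
  rw [AModX.res_self] at hr
  have ha : g.app (f ⁻¹ᵁ V) a = g'.app (f ⁻¹ᵁ V) a :=
    congrArg (fun ψ => Scheme.Modules.Hom.app ψ V e) hpush
  rw [← AModX.app_res, ← AModX.app_res, hr, Scheme.Modules.Hom.app_smul, Scheme.Modules.Hom.app_smul,
    AModX.app_res, AModX.app_res, ha]

theorem epi_counit_of_exists_locus (f : X ⟶ Y) (M : X.Modules)
    (h : ∀ x : X, ∃ (V : Y.Opens) (a : Γ(M, f ⁻¹ᵁ V)), x ∈ AmpleX.locus a) :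
    Epi ((Scheme.Modules.pullbackPushforwardAdjunction f).counit.app M) := by
  have := epi_adjoint_of_exists_locus f M (𝟙 _) h
  rwa [Adjunction.homEquiv_counit, CategoryTheory.Functor.map_id, Category.id_comp] at this

theorem epi_counit_of_isRelVeryAmple {q : X ⟶ Y} {L : X.Modules} (h : RelProj.IsRelVeryAmple q L) :
    Epi ((Scheme.Modules.pullbackPushforwardAdjunction q).counit.app L) := by
  obtain ⟨E, hE, 𝒮, j, hj, P, p, chart, hP, O1, lam, hO1, i, hi, hip, ⟨θ⟩⟩ := h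
  subst hip
  refine epi_counit_of_exists_locus _ _ fun x => ?_
  obtain ⟨_, ⟨U, hU, rfl⟩, hxU, -⟩ := Y.isBasis_affineOpens.exists_subset_of_mem_open
    (Set.mem_univ (p (i x))) isOpen_univ
  obtain ⟨w, hw⟩ := ProjQMapX.exists_emb_eq (chart := chart) U hU hxU
  obtain ⟨e, he, hwe⟩ : ∃ e ∈ 𝒮.deg U hU 1, e ∉ w.asHomogeneousIdeal := by
    by_contra! hall
    exact w.not_irrelevant_le (show (HomogeneousIdeal.irrelevant (𝒮.deg U hU)).toIdeal ≤
      w.asHomogeneousIdeal.toIdeal from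
      RelTildeX.irrelevant_eq_span_deg_one (SymAlgX.isGenDegOne hE hj) U hU ▸ Ideal.span_le.mpr hall)
  refine ⟨U, RLPsi35.pullSec hO1 i θ hU he, ?_⟩
  let D := RelProj.emb p chart U hU ''ᵁ Proj.basicOpen (𝒮.deg U hU) e
  have hle : i ⁻¹ᵁ D ≤ (i ≫ p) ⁻¹ᵁ U := i.preimage_mono (RLPsi35.preimage_le_of_emb U hU e)
  refine AmpleX.le_locus _ hle ?_ (⟨w, hwe, hw⟩ : x ∈ i ⁻¹ᵁ D)
  have h1 := (InvX.isFrame_pullElt i (RLPsi35.isFrame_sec1 hO1 hU he)).map_iso θ.symm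
  rw [← InvX.res_pullElt, AModX.app_res] at h1
  exact h1

theorem epi_of_projBundle {P : Scheme.{u}} {E : Y.Modules} {𝒮 : RelProj.QCGrAlg Y} {j : E ⟶ 𝒮.toModule}
    (hE : Coh.IsQCoh E) (hj : RelProj.IsGrSymAlg E 𝒮 j) {p : P ⟶ Y}
    {chart : ∀ (U : Y.Opens) (hU : IsAffineOpen U), ((p ⁻¹ᵁ U : P.Opens) : Scheme.{u}) ≅ Proj (𝒮.deg U hU)}
    {O1 : P.Modules} {lam : ∀ (U : Y.Opens) (hU : IsAffineOpen U),
      O1 ⟶ (Scheme.Modules.pushforward (RelProj.emb p chart U hU)).obj (GrTwist.twist (𝒮.deg U hU) 1)}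
    (hO1 : RelProj.IsRelTwist 𝒮 p chart 1 O1 lam) (φ : E ⟶ (Scheme.Modules.pushforward p).obj O1)
    (hφ : ∀ (U : Y.Opens) (hU : IsAffineOpen U) (e : Γ(E, U))
      (y : ↥(RelProj.emb p chart U hU ⁻¹ᵁ (p ⁻¹ᵁ U))),
      GrTwist.val (V := RelProj.emb p chart U hU ⁻¹ᵁ (p ⁻¹ᵁ U))
          ((lam U hU).app (p ⁻¹ᵁ U) ((φ.app U) e)) y =
        algebraMap (𝒮.presheaf.obj (op U)) (GrTwist.Loc (𝒮.deg U hU) y.1)
          ((j.app U) e : 𝒮.presheaf.obj (op U))) :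
    Epi (((Scheme.Modules.pullbackPushforwardAdjunction p).homEquiv E O1).symm φ) := by
  refine epi_adjoint_of_exists_locus p O1 φ fun x => ?_
  obtain ⟨_, ⟨U, hU, rfl⟩, hxU, -⟩ := Y.isBasis_affineOpens.exists_subset_of_mem_open
    (Set.mem_univ (p x)) isOpen_univ
  obtain ⟨w, hw⟩ := ProjQMapX.exists_emb_eq (chart := chart) U hU hxU
  obtain ⟨e, he, hwe⟩ : ∃ e ∈ 𝒮.deg U hU 1, e ∉ w.asHomogeneousIdeal := by
    by_contra! hall
    exact w.not_irrelevant_le (show (HomogeneousIdeal.irrelevant (𝒮.deg U hU)).toIdeal ≤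
      w.asHomogeneousIdeal.toIdeal from
      RelTildeX.irrelevant_eq_span_deg_one (SymAlgX.isGenDegOne hE hj) U hU ▸ Ideal.span_le.mpr hall)
  obtain ⟨z, rfl⟩ := SymAlgX.exists_of_mem_deg_one hE hj U hU he
  have hz : (φ.app U z : Γ(O1, p ⁻¹ᵁ U)) = RLPsi35.sec1 hO1 hU he := by
    refine (hO1.bijective U hU _ le_rfl).1 (Subtype.ext (funext fun y => Subtype.ext ?_))
    refine (hφ U hU z y).trans ?_
    refine Eq.trans ?_ (RLPsi35.val_gsec (n := 1) hO1 hU he y).symm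
    rw [Localization.mk_one_eq_algebraMap]
  refine ⟨U, z, ?_⟩
  show x ∈ AmpleX.locus (M := O1) (U := p ⁻¹ᵁ U) (φ.app U z)
  rw [hz]
  exact AmpleX.le_locus _ (RLPsi35.preimage_le_of_emb U hU _) (RLPsi35.isFrame_sec1 hO1 hU he) ⟨w, hwe, hw⟩

end Groth.Agent.RelProj34
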