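import Groth.Agent.RelProj34.QHomMap
import Groth.Agent.RLPsi35.VeryAmple
import Groth.Agent.RLPsi35.Ample
import Groth.Agent.RelTildeX.Invertible
import Groth.Agent.SymAlgX.GrSym
import Groth.Agent.Proj16.RelExist
import Groth.Agent.AmpleX.RelAffine

/-!
# The inverse image of `O(1)` by an embedding into a projective bundle is relatively ample
-/

universe u

set_option backward.isDefEq.respectTransparency false
set_option backward.isDefEq.respectTransparency.types false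

open CategoryTheory CategoryTheory.Limits AlgebraicGeometry TopologicalSpace Opposite

noncomputable section

namespace Groth.Agent.RelProj34

open RLPsi35

theorem isRelAmple_pullback_of_isEmbedding {X Y : Scheme.{u}} {f : X ⟶ Y} [QuasiCompact f]
    {E : Y.Modules} (hE : Coh.IsQCoh E) {𝒮 : RelProj.QCGrAlg Y} {j : E ⟶ 𝒮.toModule}
    (hj : RelProj.IsGrSymAlg E 𝒮 j) {P : Scheme.{u}} {p : P ⟶ Y}
    {chart : ∀ (U : Y.Opens) (hU : IsAffineOpen U), ((p ⁻¹ᵁ U : P.Opens) : Scheme.{u}) ≅ Proj (𝒮.deg U hU)}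
    (hP : RelProj.IsRelProj 𝒮 p chart) {O1 : P.Modules}
    {lam : ∀ (U : Y.Opens) (hU : IsAffineOpen U),
      O1 ⟶ (Scheme.Modules.pushforward (RelProj.emb p chart U hU)).obj (GrTwist.twist (𝒮.deg U hU) 1)}
    (hO1 : RelProj.IsRelTwist 𝒮 p chart 1 O1 lam)
    (g : X ⟶ P) (hg : g ≫ p = f) (hemb : Topology.IsEmbedding g.base) :
    RelAmple.IsRelAmple f ((Scheme.Modules.pullback g).obj O1) := by
  subst hg
  have hgen := SymAlgX.isGenDegOne hE hj
  have hL : PicF.IsInvertible ((Scheme.Modules.pullback g).obj O1) :=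
    PicClLib.isInvertible_pullback g (RelTildeX.isInvertible_twist hgen hO1)
  have hLq : Coh.IsQCoh ((Scheme.Modules.pullback g).obj O1) := ProjUPX.isQCoh_of_isInvertible hL
  obtain ⟨𝒮L, jL, hjL⟩ := SymAlgX.exists_isGrSymAlg _ hLq
  obtain ⟨PL, pL, chartL, hPL⟩ := Proj16.exists_isRelProj (𝒮 := 𝒮L)
  let ψ : E ⟶ (Scheme.Modules.pushforward (g ≫ p)).obj ((Scheme.Modules.pullback g).obj O1) :=
    tautMap hO1 hj.2 hP ≫ (Scheme.Modules.pushforward p).map
      ((Scheme.Modules.pullbackPushforwardAdjunction g).unit.app O1) ≫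
        (Scheme.Modules.pushforwardComp g p).hom.app _
  obtain ⟨u, hu⟩ := exists_qGrHom_of_map (g ≫ p) hE hj ψ hjL.2
  have hu' : ∀ (U : Y.Opens) (hU : IsAffineOpen U) (e : 𝒮.presheaf.obj (op U)) (he : e ∈ 𝒮.deg U hU 1),
      (u.app U).hom e = LineCone35.elt jL (pullSec hO1 g (Iso.refl _) hU he) := by
    intro U hU e he
    obtain ⟨x, rfl⟩ := SymAlgX.exists_of_mem_deg_one hE hj U hU he
    refine (hu U x).trans ?_
    show (jL.app _) (InvX.pullElt g ((tautMap hO1 hj.2 hP).app U x)) = _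
    rw [tautMap_app hO1 hj.2 hP hU]
    rfl
  obtain ⟨r, hr, -⟩ := ProjQMapX.existsUnique_isProjQMapOn u hP hPL
  obtain ⟨htop, he⟩ := eq_comp_of_pullback hP hO1 hLq hjL hPL g (Iso.refl _) hgen hu' hr
  have := isIso_pL hLq hjL hPL hL
  have := ProjQMapX.isIso_ι_of_eq_top htop
  refine RLPsi35.isRelAmple_of_isEmbedding hL hLq hjL u hPL hP hr htop ?_
  rw [he]
  exact hemb.comp ((RelProj.domQ u pL chartL).ι ≫ pL).homeomorph.isEmbedding

theorem isRelAmple_of_iso {X Y : Scheme.{u}} {f : X ⟶ Y} {A B : X.Modules} (e : A ≅ B)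
    (h : RelAmple.IsRelAmple f A) : RelAmple.IsRelAmple f B :=
  ⟨h.1, fun V => AmpleX.isAmple_of_iso ((Scheme.Modules.restrictFunctor (f ⁻¹ᵁ V.1).ι).mapIso e) (h.2 V)⟩

theorem isRelAmple_of_isRelVeryAmple {X Y : Scheme.{u}} {f : X ⟶ Y} [QuasiCompact f] {L : X.Modules}
    (h : RelProj.IsRelVeryAmple f L) : RelAmple.IsRelAmple f L := by
  obtain ⟨E, hE, 𝒮, j, hj, P, p, chart, hP, O1, lam, hO1, i, hi, hip, ⟨θ⟩⟩ := h
  exact isRelAmple_of_iso θ.symm (isRelAmple_pullback_of_isEmbedding hE hj hP hO1 i hip i.isEmbedding)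

end Groth.Agent.RelProj34
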