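import Groth.Agent.RelProj34.ProjMor
import Groth.Agent.RLPsi35.PushAlg
import Groth.Agent.S12143
import Groth.Agent.InvX.Tensor
import Groth.Agent.QCoh.VanIdeal
import Mathlib.AlgebraicGeometry.Morphisms.Finite

/-!
# Direct images of graded algebras under affine morphisms; finite morphisms are projective
-/

set_option autoImplicit false
set_option linter.style.haveILetI false
set_option linter.unusedSectionVars false

universe u

open CategoryTheory CategoryTheory.Limits AlgebraicGeometry TopologicalSpace Opposite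
open scoped HomogeneousIdeal

noncomputable section

namespace Groth.Agent.RelProj34

variable {X Y : Scheme.{u}} (q : X ⟶ Y) [IsAffineHom q] (ℬ : RelProj.QCGrAlg X)

/-- The direct image of a graded algebra along an affine morphism. -/
def pushGr : RelProj.QCGrAlg Y where
  toQCAlg := RLPsi35.pushAlg q ℬ.toQCAlg
  deg U hU := ℬ.deg (q ⁻¹ᵁ U) (hU.preimage q)
  graded U hU := ℬ.graded (q ⁻¹ᵁ U) (hU.preimage q)
  map_mem {U V} hU hV i {d x} hx := ℬ.map_mem (hU.preimage q) (hV.preimage q) (q.preimage_mono i) hx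
  str_mem U hU r := ℬ.str_mem (q ⁻¹ᵁ U) (hU.preimage q) ((q.app U).hom r)

variable {P : Scheme.{u}} {p : P ⟶ X}
  {chart : ∀ (U : X.Opens) (hU : IsAffineOpen U), (((p ⁻¹ᵁ U : P.Opens) : Scheme.{u}) ≅ Proj (ℬ.deg U hU))}
  (hP : RelProj.IsRelProj ℬ p chart)

include hP in
theorem chart_res_of_eq {U V : X.Opens} (hU : IsAffineOpen U) (hV : IsAffineOpen V) (i : V ≤ U)
    (s : Γ(X, U)) (e : X.basicOpen s = V) (h) :
    P.homOfLE (p.preimage_mono i) ≫ (chart U hU).hom =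
      (chart V hV).hom ≫ Proj.map (ℬ.res hU hV i) h := by
  subst e
  exact hP.chart_res U hU s

include hP in
theorem isRelProj_pushGr : RelProj.IsRelProj (pushGr q ℬ) (p ≫ q)
    (fun U hU => chart (q ⁻¹ᵁ U) (hU.preimage q)) where
  chart_over U hU := by
    have h1 : (hU.preimage q).fromSpec ≫ q = Spec.map (q.app U) ≫ hU.fromSpec := by
      rw [← IsAffineOpen.SpecMap_appLE_fromSpec q hU (hU.preimage q) le_rfl, Scheme.Hom.app_eq_appLE]
    have h2 := hP.chart_over (q ⁻¹ᵁ U) (hU.preimage q)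
    have h3 : Spec.map ((pushGr q ℬ).strZero U hU) =
        Spec.map (ℬ.strZero (q ⁻¹ᵁ U) (hU.preimage q)) ≫ Spec.map (q.app U) := by
      rw [← Spec.map_comp]
      rfl
    show (chart (q ⁻¹ᵁ U) (hU.preimage q)).hom ≫ Proj.toSpecZero (ℬ.deg (q ⁻¹ᵁ U) (hU.preimage q)) ≫
        Spec.map ((pushGr q ℬ).strZero U hU) ≫ hU.fromSpec = (p ⁻¹ᵁ (q ⁻¹ᵁ U)).ι ≫ p ≫ q
    rw [← reassoc_of% h2, h1]
    refine congrArg (fun t => (chart (q ⁻¹ᵁ U) (hU.preimage q)).hom ≫ Proj.toSpecZero _ ≫ t) ?_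
    exact (congrArg (· ≫ hU.fromSpec) h3).trans (Category.assoc _ _ _)
  chart_res U hU r :=
    chart_res_of_eq ℬ hP (hU.preimage q) ((hU.basicOpen r).preimage q) (q.preimage_mono (Y.basicOpen_le r))
      (q.app U r) (Scheme.preimage_basicOpen q r).symm _

theorem isGenDegOne_pushGr (h : ℬ.IsGenDegOne) : (pushGr q ℬ).IsGenDegOne :=
  fun U hU => h (q ⁻¹ᵁ U) (hU.preimage q)

theorem isFTDeg_pushGr [IsFinite q] {d : ℕ} (h : ℬ.IsFTDeg d) : (pushGr q ℬ).IsFTDeg d := by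
  classical
  intro U hU
  obtain ⟨T, hT, hgen⟩ := h (q ⁻¹ᵁ U) (hU.preimage q)
  let A := ℬ.presheaf.obj (op (q ⁻¹ᵁ U))
  let σ : Γ(X, q ⁻¹ᵁ U) →+* A := (ℬ.str.app (op (q ⁻¹ᵁ U))).hom
  let ρ : Γ(Y, U) →+* A := σ.comp (q.app U).hom
  letI := (q.app U).hom.toAlgebra
  obtain ⟨G, hG⟩ : (⊤ : Submodule Γ(Y, U) Γ(X, q ⁻¹ᵁ U)).FG := (q.finite_app U hU).fg_top
  let T' : Finset A := (G ×ˢ T).image fun gt => σ gt.1 * gt.2
  refine ⟨T', ?_, fun x hx => ?_⟩
  · intro y hy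
    obtain ⟨⟨g, t⟩, hgt, rfl⟩ := Finset.mem_image.1 (Finset.mem_coe.1 hy)
    show σ g * t ∈ ℬ.deg (q ⁻¹ᵁ U) (hU.preimage q) d
    exact zero_add d ▸ SetLike.mul_mem_graded (ℬ.str_mem _ _ g) (hT (Finset.mem_product.1 hgt).2)
  obtain ⟨c, hc⟩ := hgen x hx
  show ∃ c' : A → Γ(Y, U), (x : A) = ∑ t ∈ T', ρ (c' t) * t
  rw [hc]
  let Q : A → Prop := fun y => ∃ c' : A → Γ(Y, U), y = ∑ t ∈ T', ρ (c' t) * t
  have hadd : ∀ a b, Q a → Q b → Q (a + b) := by
    rintro a b ⟨c₁, rfl⟩ ⟨c₂, rfl⟩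
    exact ⟨c₁ + c₂, by rw [← Finset.sum_add_distrib]; simp [map_add, add_mul]⟩
  have h0 : Q 0 := ⟨0, by simp⟩
  have hsmul : ∀ (r : Γ(Y, U)) a, Q a → Q (ρ r * a) := by
    rintro r a ⟨c₁, rfl⟩
    exact ⟨fun t => r * c₁ t, by rw [Finset.mul_sum]; simp [map_mul, mul_assoc]⟩
  refine Finset.sum_induction _ Q hadd h0 fun t ht => ?_
  have hall : ∀ g : Γ(X, q ⁻¹ᵁ U), Q (σ g * t) := fun g => by
    have hg : g ∈ Submodule.span Γ(Y, U) (G : Set Γ(X, q ⁻¹ᵁ U)) := hG ▸ trivial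
    induction hg using Submodule.span_induction with
    | mem g hg =>
      refine ⟨fun s => if s = σ g * t then 1 else 0, ?_⟩
      rw [Finset.sum_eq_single (σ g * t) (fun b _ hb => by simp [hb])
        (fun hn => absurd (Finset.mem_image.2 ⟨(g, t), Finset.mem_product.2 ⟨hg, ht⟩, rfl⟩) hn)]
      simp
    | zero => simpa using h0
    | add a b _ _ ha hb => rw [map_add, add_mul]; exact hadd _ _ ha hb
    | smul r a _ ha =>
      rw [Algebra.smul_def, RingHom.algebraMap_toAlgebra, map_mul, mul_assoc]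
      exact hsmul r _ ha
  exact hall (c t)

theorem isProjective_comp_of_isFinite {W : Scheme.{u}} {g : W ⟶ X} (hg : RelProj.IsProjective g)
    [IsFinite q] : RelProj.IsProjective (g ≫ q) := by
  obtain ⟨𝒮, P, p, chart, e, hgen, hft, hP, he⟩ := hg
  exact ⟨pushGr q 𝒮, P, p ≫ q, _, e, isGenDegOne_pushGr q 𝒮 hgen, isFTDeg_pushGr q 𝒮 hft,
    isRelProj_pushGr q 𝒮 hP, by rw [← Category.assoc, he]⟩

theorem isProjective_id : RelProj.IsProjective (𝟙 X) := by
  have hL : PicF.IsInvertible (Coh.structureModule X) := InvX.isInvertible_structureModule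
  have hLq : Coh.IsQCoh (Coh.structureModule X) := QCoh.isQCoh_structureModule
  obtain ⟨𝒮, j, hj⟩ := SymAlgX.exists_isGrSymAlg _ hLq
  obtain ⟨P, p, chart, hP⟩ := Proj16.exists_isRelProj 𝒮
  haveI := S12143.result _ hL hLq 𝒮 j hj p chart hP
  refine ⟨𝒮, P, p, chart, (asIso p).symm, SymAlgX.isGenDegOne hLq hj,
    isFTDeg_one_sym hLq (QCoh.isFT_of_finite hLq (fun V : X.affineOpens => V.1) (iSup_affineOpens_eq_top X)
      (fun V => V.2) fun V => ?_) hj, hP, IsIso.inv_hom_id p⟩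
  exact Module.Finite.self Γ(X, V.1)

end Groth.Agent.RelProj34
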