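import Groth.Agent.RelProj34.QuotAlg
import Groth.Agent.Proj16.RelExist
import Groth.Agent.ProjQMapX.Props
import Groth.Agent.RelSpecX.Gamma
import Groth.Agent.Proj16.Points

/-!
# The homogeneous ideals attached to an ideal sheaf on a relative `Proj`
-/

set_option autoImplicit false
set_option linter.style.haveILetI false
set_option linter.unusedSectionVars false

universe u

open CategoryTheory CategoryTheory.Limits AlgebraicGeometry TopologicalSpace Opposite HomogeneousLocalization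
open scoped HomogeneousIdeal

noncomputable section

namespace Groth.Agent.RelProj34

variable {P : Scheme.{u}}

section chart

variable {R R' : CommRingCat.{u}} (j : Spec R ⟶ P) [IsOpenImmersion j]

/-- The image of an affine chart, as an affine open. -/
abbrev chartOpen : P.affineOpens := ⟨j.opensRange, isAffineOpen_opensRange j⟩

theorem top_le_preimage_opensRange : (⊤ : (Spec R).Opens) ≤ j ⁻¹ᵁ j.opensRange := fun x _ => ⟨x, rfl⟩

/-- Functions on the image of an affine chart. -/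
def secMapJ : Γ(P, j.opensRange) ⟶ R :=
  j.appLE j.opensRange ⊤ (top_le_preimage_opensRange j) ≫ (Scheme.ΓSpecIso R).hom

theorem secMapJ_bijective : Function.Bijective (secMapJ j).hom := by
  haveI : IsIso (j.appLE j.opensRange ⊤ (top_le_preimage_opensRange j)) :=
    RelSpecX.isIso_appLE_of_le_range j _ ⊤ le_rfl (le_antisymm (top_le_preimage_opensRange j) le_top)
  exact (ConcreteCategory.isIso_iff_bijective (secMapJ j)).1 (inferInstanceAs (IsIso (_ ≫ _)))

/-- The ideal of an ideal sheaf on an affine chart. -/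
def kerPull (I : P.IdealSheafData) : Ideal R := (I.ideal (chartOpen j)).map (secMapJ j).hom

theorem kerPull_comp (I : P.IdealSheafData) (j' : Spec R' ⟶ P) [IsOpenImmersion j'] (ψ : R ⟶ R')
    (h : Spec.map ψ ≫ j = j') : (kerPull j I).map ψ.hom = kerPull j' I := by
  subst h
  have hle : (Spec.map ψ ≫ j).opensRange ≤ j.opensRange := by
    rintro _ ⟨x, rfl⟩
    exact ⟨Spec.map ψ x, rfl⟩
  rw [kerPull, kerPull, ← I.map_ideal (U := chartOpen (Spec.map ψ ≫ j)) (V := chartOpen j) hle,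
    Ideal.map_map, Ideal.map_map, ← CommRingCat.hom_comp, ← CommRingCat.hom_comp]
  refine congrArg (fun (t : Γ(P, j.opensRange) ⟶ R') => (I.ideal (chartOpen j)).map t.hom) ?_
  rw [secMapJ, secMapJ, Category.assoc, ← Category.assoc (P.presheaf.map _), Scheme.Hom.map_appLE,
    ← Scheme.ΓSpecIso_naturality ψ, ← Category.assoc]
  congr 1

end chart

variable {S : Scheme.{u}} {𝒜 : RelProj.QCGrAlg S} {p : P ⟶ S}
  {chart : ∀ (U : S.Opens) (hU : IsAffineOpen U), (((p ⁻¹ᵁ U : P.Opens) : Scheme.{u}) ≅ Proj (𝒜.deg U hU))}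
  (hP : RelProj.IsRelProj 𝒜 p chart)

variable (p chart) in
/-- The standard chart of a relative `Proj`. -/
abbrev jchart (U : S.Opens) (hU : IsAffineOpen U) {d : ℕ} (hd : 0 < d) {f : 𝒜.presheaf.obj (op U)}
    (hf : f ∈ 𝒜.deg U hU d) : Spec (CommRingCat.of (Away (𝒜.deg U hU) f)) ⟶ P :=
  Proj.awayι (𝒜.deg U hU) f hf hd ≫ RelProj.emb p chart U hU

instance isOpenImmersion_emb' (U : S.Opens) (hU : IsAffineOpen U) :
    IsOpenImmersion (RelProj.emb p chart U hU) := by
  unfold RelProj.emb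
  infer_instance

variable (I : P.IdealSheafData)

variable (p chart) in
/-- The ideals in the degree zero localizations over an affine open. -/
def jIdeal (U : S.Opens) (hU : IsAffineOpen U) (f : 𝒜.presheaf.obj (op U)) :
    Ideal (Away (𝒜.deg U hU) f) :=
  ⨅ (d : ℕ) (hd : 0 < d) (hf : f ∈ 𝒜.deg U hU d), kerPull (jchart p chart U hU hd hf) I

theorem jIdeal_eq (U : S.Opens) (hU : IsAffineOpen U) {d : ℕ} (hd : 0 < d)
    {f : 𝒜.presheaf.obj (op U)} (hf : f ∈ 𝒜.deg U hU d) :
    jIdeal p chart I U hU f = kerPull (jchart p chart U hU hd hf) I := by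
  refine le_antisymm ((iInf_le _ d).trans ((iInf_le _ hd).trans (iInf_le _ hf)))
    (le_iInf fun d' => le_iInf fun hd' => le_iInf fun hf' => ?_)
  by_cases h : d = d'
  · subst h; exact le_rfl
  · have h0 : f = 0 := by
      by_contra hne
      exact h (DirectSum.degree_eq_of_mem_mem (𝒜.deg U hU) hf hf' hne)
    haveI : Subsingleton (Away (𝒜.deg U hU) f) :=
      HomogeneousLocalization.subsingleton _ (by rw [h0]; exact ⟨1, pow_one _⟩)
    exact le_of_eq (Subsingleton.elim _ _)

theorem mem_map_awayMap {U : S.Opens} {hU : IsAffineOpen U} {d e : ℕ} {f g x : 𝒜.presheaf.obj (op U)}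
    (hd : 0 < d) (hf : f ∈ 𝒜.deg U hU d) (he : 0 < e) (hg : g ∈ 𝒜.deg U hU e) (hx : x = f * g) :
    jIdeal p chart I U hU x = (jIdeal p chart I U hU f).map (awayMap (𝒜.deg U hU) hg hx) := by
  have hxm : x ∈ 𝒜.deg U hU (d + e) := hx ▸ SetLike.mul_mem_graded hf hg
  rw [jIdeal_eq I U hU (Nat.add_pos_left hd e) hxm, jIdeal_eq I U hU hd hf]
  refine (kerPull_comp (jchart p chart U hU hd hf) I _ (CommRingCat.ofHom (awayMap (𝒜.deg U hU) hg hx)) ?_).symm
  rw [← Category.assoc, Proj.SpecMap_awayMap_awayι]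

variable (p chart) in
/-- The compatible data over an affine open. -/
def kerData (U : S.Opens) (hU : IsAffineOpen U) : KerData (𝒜.deg U hU) where
  J := jIdeal p chart I U hU
  res {d e f g x} hd hf he hg hx y hy := by
    rw [mem_map_awayMap I hd hf he hg hx]
    exact Ideal.mem_map_of_mem _ hy
  loc {d e f g x} hd hf he hg hx y hy := by
    rw [mem_map_awayMap I hd hf he hg hx] at hy
    letI := (awayMap (𝒜.deg U hU) hg hx).toAlgebra
    haveI := Away.isLocalization_mul hf hg hx (Nat.pos_iff_ne_zero.1 hd)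
    obtain ⟨⟨z, ⟨_, k, rfl⟩⟩, hz⟩ :=
      (IsLocalization.mem_map_algebraMap_iff (Submonoid.powers (Away.isLocalizationElem hf hg)) (Away (𝒜.deg U hU) x)).1 hy
    exact ⟨k, z, z.2, by rw [← map_pow]; exact hz⟩

variable (p chart) in
/-- The homogeneous ideal over an affine open. -/
def famIdeal (U : S.Opens) (hU : IsAffineOpen U) : Ideal (𝒜.presheaf.obj (op U)) :=
  satIdeal (kerData p chart I U hU)

include chart in
theorem exists_cover [QuasiCompact p] (U : S.Opens) (hU : IsAffineOpen U) :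
    ∃ (ι : Type u) (_ : Finite ι) (g : ι → 𝒜.presheaf.obj (op U)) (e : ι → ℕ),
      (∀ i, 0 < e i) ∧ (∀ i, g i ∈ 𝒜.deg U hU (e i)) ∧
        ((𝒜.deg U hU)₊).toIdeal ≤ (Ideal.span (Set.range g)).radical := by
  haveI : CompactSpace (p ⁻¹ᵁ U : P.Opens) := isCompact_iff_compactSpace.mp
    (QuasiCompact.isCompact_preimage (f := p) _ U.2 hU.isCompact)
  haveI : CompactSpace (Proj (𝒜.deg U hU)) :=
    (chart U hU).hom.homeomorph.compactSpace
  let T := Σ' (d : ℕ) (_ : 0 < d) (f : 𝒜.presheaf.obj (op U)), f ∈ 𝒜.deg U hU d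
  have hcov : (Set.univ : Set (Proj (𝒜.deg U hU))) ⊆
      ⋃ t : T, (Proj.basicOpen (𝒜.deg U hU) t.2.2.1 : Set _) := by
    intro w _
    obtain ⟨a, ha, hwa⟩ := SetLike.not_le_iff_exists.mp w.not_irrelevant_le
    obtain ⟨d, f, hd, hf, hwf⟩ := ProjQMapX.exists_homogeneous_of_mem_irrelevant
      (GradedRingHom.id (𝒜.deg U hU)) (I := w.asHomogeneousIdeal.toIdeal) ha hwa
    exact Set.mem_iUnion.2 ⟨⟨d, hd, f, hf⟩, hwf⟩
  obtain ⟨s, hs⟩ := isCompact_univ.elim_finite_subcover _
    (fun t : T => (Proj.basicOpen (𝒜.deg U hU) t.2.2.1).2) hcov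
  refine ⟨{t // t ∈ s}, inferInstance, fun t => t.1.2.2.1, fun t => t.1.1, fun t => t.1.2.1,
    fun t => t.1.2.2.2, ?_⟩
  refine (Proj16.iSup_basicOpen_eq_top_iff _ _ fun t => ⟨t.1.1, t.1.2.1, t.1.2.2.2⟩).1 ?_
  refine eq_top_iff.2 fun w hw => ?_
  obtain ⟨t, ht, hwt⟩ := Set.mem_iUnion₂.1 (hs hw)
  exact Opens.mem_iSup.2 ⟨⟨t, ht⟩, hwt⟩

include hP in
theorem map_res_emb (U : S.Opens) (hU : IsAffineOpen U) (r : Γ(S, U)) :
    Proj.map (𝒜.res hU (hU.basicOpen r) (S.basicOpen_le r)) (𝒜.irrelevant_le_map U hU r) ≫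
        RelProj.emb p chart U hU =
      RelProj.emb p chart (S.basicOpen r) (hU.basicOpen r) := by
  have h2 : Proj.map (𝒜.res hU (hU.basicOpen r) (S.basicOpen_le r)) (𝒜.irrelevant_le_map U hU r) ≫
      (chart U hU).inv =
      (chart _ (hU.basicOpen r)).inv ≫ P.homOfLE (p.preimage_mono (S.basicOpen_le r)) := by
    rw [Iso.comp_inv_eq, Category.assoc, hP.chart_res U hU r, Iso.inv_hom_id_assoc]
  rw [RelProj.emb, RelProj.emb, reassoc_of% h2, Scheme.homOfLE_ι]

include hP in
theorem jIdeal_res (U : S.Opens) (hU : IsAffineOpen U) (r : Γ(S, U)) {d : ℕ} (hd : 0 < d)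
    {f : 𝒜.presheaf.obj (op U)} (hf : f ∈ 𝒜.deg U hU d) :
    jIdeal p chart I (S.basicOpen r) (hU.basicOpen r) (𝒜.res hU (hU.basicOpen r) (S.basicOpen_le r) f) =
      (jIdeal p chart I U hU f).map (Away.map (𝒜.res hU (hU.basicOpen r) (S.basicOpen_le r)) f) := by
  refine (jIdeal_eq I (S.basicOpen r) (hU.basicOpen r) hd ((𝒜.res hU (hU.basicOpen r) (S.basicOpen_le r)).2 hf)).trans ?_
  rw [jIdeal_eq I U hU hd hf]
  refine (kerPull_comp (jchart p chart U hU hd hf) I _
    (CommRingCat.ofHom (Away.map (𝒜.res hU (hU.basicOpen r) (S.basicOpen_le r)) f)) ?_).symm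
  rw [jchart, jchart, ← map_res_emb hP U hU r]
  exact (Proj.awayι_comp_map_assoc _ (𝒜.irrelevant_le_map U hU r) hd f hf _).symm

include hP in
theorem famIdeal_loc [QuasiCompact p] (U : S.Opens) (hU : IsAffineOpen U) (r : Γ(S, U)) :
    famIdeal p chart I (S.basicOpen r) (hU.basicOpen r) =
      (famIdeal p chart I U hU).map (𝒜.presheaf.map (homOfLE (S.basicOpen_le r)).op).hom := by
  obtain ⟨ι, hfin, g, e, he, hg, hcov⟩ := exists_cover (p := p) (chart := chart) U hU
  let φ := 𝒜.res hU (hU.basicOpen r) (S.basicOpen_le r)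
  letI : Algebra (𝒜.presheaf.obj (op U)) (𝒜.presheaf.obj (op (S.basicOpen r))) :=
    (𝒜.presheaf.map (homOfLE (S.basicOpen_le r)).op).hom.toAlgebra
  let c : 𝒜.presheaf.obj (op U) := (𝒜.str.app (op U)).hom r
  haveI : IsLocalization.Away c (𝒜.presheaf.obj (op (S.basicOpen r))) := 𝒜.isQC U hU r
  refine satIdeal_eq_map (kerData p chart I U hU) (kerData p chart I _ (hU.basicOpen r)) φ c
    (fun _ => rfl) (fun {d f} hd hf y hy => ?_) (fun {d f} hd hf y' hy' => ?_) g e he hg hcov
    (𝒜.irrelevant_le_map U hU r)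
  · show Away.map φ f y ∈ jIdeal p chart I _ _ (φ f)
    rw [jIdeal_res hP I U hU r hd hf]
    exact Ideal.mem_map_of_mem _ hy
  · change y' ∈ jIdeal p chart I _ _ (φ f) at hy'
    rw [jIdeal_res hP I U hU r hd hf] at hy'
    have hloc := (Proj16.res_invertsZero 𝒜 U hU r).awayMap_isLocalization hf
    let t : Away (𝒜.deg U hU) f :=
      fromZeroRingHom (𝒜.deg U hU) (Submonoid.powers f) ((𝒜.strZero U hU).hom r)
    letI := (Away.map φ f).toAlgebra
    haveI : IsLocalization.Away t (Away (𝒜.deg (S.basicOpen r) (hU.basicOpen r)) (φ f)) := hloc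
    obtain ⟨⟨z, ⟨_, k, rfl⟩⟩, hz⟩ := (IsLocalization.mem_map_algebraMap_iff (Submonoid.powers t)
      (Away (𝒜.deg (S.basicOpen r) (hU.basicOpen r)) (φ f))).1 hy'
    refine ⟨k, z, z.2, ?_⟩
    have hv := congrArg HomogeneousLocalization.val hz
    rw [HomogeneousLocalization.val_mul, map_pow, HomogeneousLocalization.val_pow] at hv
    rw [mul_comm]
    refine Eq.trans (congrArg (fun a => y'.val * a ^ k) ?_) hv
    show algebraMap _ (Localization.Away (φ f)) (φ c) = (Away.map φ f t).val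
    simp only [t, Away.map, fromZeroRingHom, RingHom.coe_mk, MonoidHom.coe_mk, OneHom.coe_mk,
      HomogeneousLocalization.map_mk, HomogeneousLocalization.val_mk]
    rw [← Localization.mk_one_eq_algebraMap]
    exact congr_arg₂ Localization.mk rfl (Subtype.ext (map_one φ).symm)

variable (p chart) in
/-- The family of homogeneous ideals of an ideal sheaf. -/
def idealFam [QuasiCompact p] (hP : RelProj.IsRelProj 𝒜 p chart) : IdealFam 𝒜 where
  I := famIdeal p chart I
  hom U hU := isHomogeneous_satIdeal (kerData p chart I U hU)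
  loc := famIdeal_loc hP I

theorem ker_awayMap [QuasiCompact p] (hP : RelProj.IsRelProj 𝒜 p chart) (U : S.Opens)
    (hU : IsAffineOpen U) {d : ℕ} (hd : 0 < d) {f : 𝒜.presheaf.obj (op U)} (hf : f ∈ 𝒜.deg U hU d) :
    RingHom.ker (Away.map (RelProj.gradedHomAt (idealFam p chart I hP).qMap
        (idealFam p chart I hP).isGradedHom_qMap U hU) f) =
      kerPull (jchart p chart U hU hd hf) I := by
  obtain ⟨ι, hfin, g, e, he, hg, hcov⟩ := exists_cover (p := p) (chart := chart) U hU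
  rw [← jIdeal_eq I U hU hd hf]
  ext y
  obtain ⟨n, a, ha, rfl⟩ := y.mk_surjective (𝒜.deg U hU) hf
  rw [RingHom.mem_ker, awayMap_eq_zero_iff]
  show _ ↔ _ ∈ (kerData p chart I U hU).J f
  rw [mk_mem_J_iff (kerData p chart I U hU) g e he hg hcov hd hf ha]
  exact exists_congr fun m => (idealFam p chart I hP).proj_eq_zero_iff U hU _

end Groth.Agent.RelProj34
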