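import Groth.Prelude.Def_RelProj4
import Groth.Agent.SymAlgX.GrSym

/-!
# Morphisms of quasi-coherent algebras over a morphism of bases, given on affine opens
-/

set_option autoImplicit false
set_option linter.style.haveILetI false

universe u

open CategoryTheory CategoryTheory.Limits AlgebraicGeometry TopologicalSpace Opposite

noncomputable section

namespace Groth.Agent.RelProj34

variable {S S' : Scheme.{u}} (g : S' ⟶ S)

/-- A morphism over `g` from its values on affine opens. -/
theorem exists_qHom_of_affine (A : RelSpec.QCAlg S) (B : RelSpec.QCAlg S')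
    (β : ∀ (U : S.Opens), IsAffineOpen U → (A.presheaf.obj (op U) ⟶ B.presheaf.obj (op (g ⁻¹ᵁ U))))
    (hnat : ∀ {U V : S.Opens} (hU : IsAffineOpen U) (hV : IsAffineOpen V) (i : V ≤ U),
      β U hU ≫ B.presheaf.map (homOfLE (g.preimage_mono i)).op = A.presheaf.map (homOfLE i).op ≫ β V hV)
    (hstr : ∀ (U : S.Opens) (hU : IsAffineOpen U),
      A.str.app (op U) ≫ β U hU = g.app U ≫ B.str.app (op (g ⁻¹ᵁ U))) :
    ∃ u : RelSpec.QHom g A B, ∀ (U : S.Opens) (hU : IsAffineOpen U), u.app U = β U hU := by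
  let G : TopCat.Sheaf CommRingCat.{u} S.carrier :=
    (TopCat.Sheaf.pushforward CommRingCat.{u} g.base).obj ⟨B.presheaf, B.isSheaf⟩
  let e := fun ℱ : TopCat.Presheaf CommRingCat.{u} S.carrier =>
    Functor.IsCoverDense.restrictHomEquivHom (G := Scheme.AffineZariskiSite.toOpensFunctor S)
      (K := Opens.grothendieckTopology S) (ℱ := ℱ) (ℱ' := G)
  let b : (Scheme.AffineZariskiSite.toOpensFunctor S).op ⋙ A.presheaf ⟶
      (Scheme.AffineZariskiSite.toOpensFunctor S).op ⋙ G.obj :=
    { app := fun U => β U.unop.1 U.unop.2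
      naturality := fun U V i => (hnat U.unop.2 V.unop.2 (Scheme.AffineZariskiSite.toOpens_mono i.unop.le)).symm }
  let f : A.presheaf ⟶ G.obj := e _ b
  have hf : ∀ (U : S.Opens) (hU : IsAffineOpen U), f.app (op U) = β U hU := fun U hU =>
    NatTrans.congr_app ((e _).symm_apply_apply b) (op ⟨U, hU⟩)
  let c : S.presheaf ⟶ G.obj :=
    g.c ≫ (TopCat.Presheaf.pushforward CommRingCat.{u} g.base).map B.str
  have hc : A.str ≫ f = c := by
    apply (e _).symm.injective
    ext U : 2
    show A.str.app (op U.unop.1) ≫ f.app (op U.unop.1) = c.app (op U.unop.1)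
    rw [hf _ U.unop.2]
    exact hstr U.unop.1 U.unop.2
  exact ⟨{ app := fun U => f.app (op U)
           naturality := fun i => (f.naturality (homOfLE i).op).symm
           str_app := fun U => NatTrans.congr_app hc (op U) }, hf⟩

variable {E : S.Modules} {𝒮 : RelProj.QCGrAlg S} {j : E ⟶ 𝒮.toModule} {𝒮' : RelProj.QCGrAlg S'}
  {j' : (Scheme.Modules.pullback g).obj E ⟶ 𝒮'.toModule}

open SymAlgX in
/-- The canonical morphism `Sym E → Sym (g^* E)` over `g`. -/
theorem exists_qGrHom_sym (hE : Coh.IsQCoh E) (hj : RelProj.IsGrSymAlg E 𝒮 j)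
    (hj' : RelProj.IsGrSymAlg ((Scheme.Modules.pullback g).obj E) 𝒮' j') :
    ∃ u : RelProj.QGrHom g 𝒮 𝒮', ∀ (U : S.Opens) (x : Γ(E, U)),
      (u.app U).hom ((j.app U) x) =
        (j'.app (g ⁻¹ᵁ U)) (((Scheme.Modules.pullbackPushforwardAdjunction g).unit.app E).app U x) := by
  let η : E ⟶ (Scheme.Modules.pushforward g).obj ((Scheme.Modules.pullback g).obj E) :=
    (Scheme.Modules.pullbackPushforwardAdjunction g).unit.app E
  let m : ∀ U : S.Opens, Γ(E, U) →+ 𝒮'.presheaf.obj (op (g ⁻¹ᵁ U)) := fun U =>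
    (j'.app (g ⁻¹ᵁ U)).hom.comp (η.app U).hom
  have hm : ∀ (U : S.Opens) (r : Γ(S, U)) (x : Γ(E, U)),
      m U (r • x) = (g.app U ≫ 𝒮'.str.app (op (g ⁻¹ᵁ U))).hom r * m U x := fun U r x => by
    show (j'.app (g ⁻¹ᵁ U)) (η.app U (r • x)) = _
    rw [Scheme.Modules.Hom.app_smul η r x]
    exact Scheme.Modules.Hom.app_smul j' ((g.app U).hom r) (η.app U x)
  let L : ∀ U : S.Opens, SymmetricAlgebra Γ(S, U) Γ(E, U) →+* 𝒮'.presheaf.obj (op (g ⁻¹ᵁ U)) :=
    fun U => symLift _ (m U) (hm U)
  let σ : ∀ (U : S.Opens), IsAffineOpen U →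
      (SymmetricAlgebra Γ(S, U) Γ(E, U) ≃+* 𝒮.presheaf.obj (op U)) := fun U hU =>
    RingEquiv.ofBijective _ (secMap_bijective hE hj U hU)
  let β : ∀ (U : S.Opens), IsAffineOpen U →
      (𝒮.presheaf.obj (op U) ⟶ 𝒮'.presheaf.obj (op (g ⁻¹ᵁ U))) := fun U hU =>
    CommRingCat.ofHom ((L U).comp (σ U hU).symm.toRingHom)
  have hβ : ∀ (U : S.Opens) (hU : IsAffineOpen U) (a : SymmetricAlgebra Γ(S, U) Γ(E, U)),
      (β U hU).hom (secMap j U a) = L U a := fun U hU a => by
    show L U ((σ U hU).symm (σ U hU a)) = _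
    rw [RingEquiv.symm_apply_apply]
  refine Exists.elim (exists_qHom_of_affine g 𝒮.toQCAlg 𝒮'.toQCAlg β ?hnat ?hstr) fun u hu => ?main
  case main =>
    have hux : ∀ (U : S.Opens) (x : Γ(E, U)), (u.app U).hom ((j.app U) x) = m U x := fun U x => by
      refine TopCat.Presheaf.IsSheaf.section_ext ((TopCat.Sheaf.pushforward CommRingCat.{u} g.base).obj
        ⟨𝒮'.presheaf, 𝒮'.isSheaf⟩).property fun p hp => ?_
      obtain ⟨_, ⟨W, hW, rfl⟩, hpW, hWU⟩ :=
        S.isBasis_affineOpens.exists_subset_of_mem_open hp U.isOpen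
      refine ⟨W, hWU, hpW, ?_⟩
      show (𝒮'.presheaf.map (homOfLE (g.preimage_mono hWU)).op).hom ((u.app U).hom ((j.app U) x)) =
        (𝒮'.presheaf.map (homOfLE (g.preimage_mono hWU)).op).hom (m U x)
      have h1 := CategoryTheory.congr_fun (u.naturality hWU) ((j.app U) x)
      refine h1.trans ?_
      show (u.app W).hom ((𝒮.presheaf.map (homOfLE hWU).op).hom ((j.app U) x)) = _
      rw [show (𝒮.presheaf.map (homOfLE hWU).op).hom ((j.app U) x) =
          (j.app W) (E.presheaf.map (homOfLE hWU).op x) from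
          (CategoryTheory.congr_fun (j.mapPresheaf.naturality (homOfLE hWU).op) x).symm,
        ← secMap_ι (j := j), hu W hW, hβ W hW]
      show L W _ = _
      rw [show L W (SymmetricAlgebra.ι _ _ (E.presheaf.map (homOfLE hWU).op x)) =
          m W (E.presheaf.map (homOfLE hWU).op x) from symLift_ι _ _ _ _]
      show (j'.app (g ⁻¹ᵁ W)) (η.app W _) = _
      rw [show η.app W (E.presheaf.map (homOfLE hWU).op x) = _ from
        CategoryTheory.congr_fun (η.mapPresheaf.naturality (homOfLE hWU).op) x]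
      exact CategoryTheory.congr_fun (j'.mapPresheaf.naturality (homOfLE (g.preimage_mono hWU)).op) (η.app U x)
    refine ⟨{ toQHom := u, map_mem := fun U hU U' hU' hle d x hx => ?_ }, hux⟩
    obtain ⟨a, rfl⟩ := (secMap_bijective hE hj U hU).2 x
    rw [secMap_mem_iff hE hj U hU] at hx
    rw [hu U hU, hβ U hU]
    refine mem_of_mem_symDeg (𝒮'.deg U' hU') ((𝒮'.presheaf.map (homOfLE hle).op).hom.comp (L U))
      (fun r => ?_) (fun y => ?_) hx
    · show (𝒮'.presheaf.map (homOfLE hle).op).hom (L U (algebraMap _ _ r)) ∈ _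
      rw [show L U (algebraMap _ _ r) = _ from symLift_algebraMap _ _ _ r]
      rw [show (𝒮'.presheaf.map (homOfLE hle).op).hom ((g.app U ≫ 𝒮'.str.app (op (g ⁻¹ᵁ U))).hom r) = _ from
        (CategoryTheory.congr_fun (𝒮'.str.naturality (homOfLE hle).op) ((g.app U).hom r)).symm]
      exact 𝒮'.str_mem U' hU' _
    · show (𝒮'.presheaf.map (homOfLE hle).op).hom (L U (SymmetricAlgebra.ι _ _ y)) ∈ _
      rw [show L U (SymmetricAlgebra.ι _ _ y) = m U y from symLift_ι _ _ _ _]
      show (𝒮'.presheaf.map (homOfLE hle).op).hom ((j'.app (g ⁻¹ᵁ U)) (η.app U y)) ∈ _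
      rw [show (𝒮'.presheaf.map (homOfLE hle).op).hom ((j'.app (g ⁻¹ᵁ U)) (η.app U y)) = _ from
        (CategoryTheory.congr_fun (j'.mapPresheaf.naturality (homOfLE hle).op) (η.app U y)).symm]
      exact hj'.2 U' hU' _
  case hnat =>
    intro U V hU hV i
    refine CommRingCat.hom_ext (RingHom.ext fun x => ?_)
    obtain ⟨a, rfl⟩ := (secMap_bijective hE hj U hU).2 x
    show (𝒮'.presheaf.map (homOfLE (g.preimage_mono i)).op).hom ((β U hU).hom (secMap j U a)) =
      (β V hV).hom ((𝒮.presheaf.map (homOfLE i).op).hom (secMap j U a))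
    rw [hβ U hU, ← secMap_res, hβ V hV]
    refine RingHom.congr_fun (?_ : ((𝒮'.presheaf.map (homOfLE (g.preimage_mono i)).op).hom.comp (L U)) =
      (L V).comp (symRes E i)) a
    refine sym_ringHom_ext (fun r => ?_) fun y => ?_
    · rw [RingHom.comp_apply, RingHom.comp_apply, symRes_algebraMap,
        show L U (algebraMap _ _ r) = _ from symLift_algebraMap _ _ _ r]
      rw [show L V (algebraMap _ _ _) = _ from symLift_algebraMap _ _ _ _]
      refine (CategoryTheory.congr_fun (𝒮'.str.naturality (homOfLE (g.preimage_mono i)).op) ((g.app U).hom r)).symm.trans ?_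
      exact congrArg (𝒮'.str.app (op (g ⁻¹ᵁ V))).hom
        (CategoryTheory.congr_fun (g.naturality (homOfLE i).op) r).symm
    · rw [RingHom.comp_apply, RingHom.comp_apply, symRes_ι,
        show L U (SymmetricAlgebra.ι _ _ y) = m U y from symLift_ι _ _ _ _]
      rw [show L V (SymmetricAlgebra.ι _ _ _) = _ from symLift_ι _ _ _ _]
      refine (CategoryTheory.congr_fun (j'.mapPresheaf.naturality (homOfLE (g.preimage_mono i)).op) (η.app U y)).symm.trans ?_
      exact congrArg (j'.app (g ⁻¹ᵁ V))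
        (CategoryTheory.congr_fun (η.mapPresheaf.naturality (homOfLE i).op) y).symm
  case hstr =>
    intro U hU
    refine CommRingCat.hom_ext (RingHom.ext fun r => ?_)
    show (β U hU).hom ((𝒮.str.app (op U)).hom r) = _
    rw [← secMap_algebraMap (j := j), hβ U hU]
    exact symLift_algebraMap _ _ _ r

end Groth.Agent.RelProj34
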