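import Groth.Agent.RelProj34.ProjMor
import Groth.Agent.RelProj34.QHom
import Groth.Agent.SymAlgX.BaseChange
import Groth.Agent.ProjBC35.Rel
import Groth.Agent.QCoh.RpushStalk

/-!
# Stability properties of projective morphisms
-/

set_option autoImplicit false
set_option linter.style.haveILetI false

universe u

open CategoryTheory CategoryTheory.Limits AlgebraicGeometry

noncomputable section

namespace Groth.Agent.RelProj34

theorem isProjective_of_isPullback {X Y X' Y' : Scheme.{u}} {f : X ⟶ Y} (hf : RelProj.IsProjective f)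
    {g : Y' ⟶ Y} {g' : X' ⟶ X} {f' : X' ⟶ Y'} (sq : IsPullback g' f' f g) : RelProj.IsProjective f' := by
  obtain ⟨E, 𝒯, j, P, p, chart, i, hE, hft, hj, hP, hi, hip⟩ := exists_closedImmersion_of_isProjective hf
  have hE' := QCoh.isQCoh_pullback g hE
  obtain ⟨𝒯', j', hj'⟩ := SymAlgX.exists_isGrSymAlg _ hE'
  obtain ⟨u, hu⟩ := exists_qGrHom_sym g hE hj hj'
  have hbc : RelSpec.IsQBaseChange u.toQHom := SymAlgX.isQBaseChange hE hj.1 hj'.1 u.toQHom hu
  obtain ⟨P', p', chart', hP'⟩ := Proj16.exists_isRelProj 𝒯'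
  obtain ⟨h, hh⟩ := ProjBC35.exists_isProjQMap (P := P) (P' := P') hP hP' hbc
  have hsq := ProjBC35.isPullback_of_isProjQMap hP hP' hbc hh
  subst hip
  let i' : X' ⟶ P' := hsq.lift (g' ≫ i) f' (by rw [Category.assoc]; exact sq.w)
  have h1 : IsPullback g' i' i h := by
    refine IsPullback.of_bot ?_ (hsq.lift_fst _ _ _).symm hsq
    rw [hsq.lift_snd]
    exact sq
  haveI : IsClosedImmersion i' :=
    MorphismProperty.IsStableUnderBaseChange.of_isPullback h1 hi
  exact isProjective_of_closedImmersion hE' (QCoh.isFT_pullback g hE hft) hj' hP' i' (hsq.lift_snd _ _ _)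

theorem isProjective_closedImmersion_comp {X' X Y : Scheme.{u}} {f : X ⟶ Y} (hf : RelProj.IsProjective f)
    (i : X' ⟶ X) [IsClosedImmersion i] : RelProj.IsProjective (i ≫ f) := by
  obtain ⟨E, 𝒯, j, P, p, chart, i₀, hE, hft, hj, hP, hi, hip⟩ := exists_closedImmersion_of_isProjective hf
  exact isProjective_of_closedImmersion hE hft hj hP (i ≫ i₀) (by rw [Category.assoc, hip])

theorem isProjective_pullback_snd {X Y Y' : Scheme.{u}} {f : X ⟶ Y} (hf : RelProj.IsProjective f)
    (g : Y' ⟶ Y) : RelProj.IsProjective (pullback.snd f g) :=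
  isProjective_of_isPullback hf (IsPullback.of_hasPullback f g)

theorem isProjective_of_comp {X Y Z : Scheme.{u}} (f : X ⟶ Y) (g : Y ⟶ Z) [IsSeparated g]
    (h : RelProj.IsProjective (f ≫ g)) : RelProj.IsProjective f := by
  let γ : X ⟶ pullback (f ≫ g) g := pullback.lift (𝟙 X) f (Category.id_comp _)
  haveI : IsClosedImmersion γ := inferInstanceAs (IsClosedImmersion (pullback.lift (𝟙 X) f (Category.id_comp (f ≫ g))))
  have := isProjective_closedImmersion_comp (isProjective_pullback_snd h g) γ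
  rwa [pullback.lift_snd] at this

theorem isProjective_of_closedImmersions {X Y X₀ Y₀ : Scheme.{u}} {f : X ⟶ Y} (hf : RelProj.IsProjective f)
    (j : X₀ ⟶ X) [IsClosedImmersion j] (k : Y₀ ⟶ Y) [IsClosedImmersion k] (f₀ : X₀ ⟶ Y₀)
    (h : j ≫ f = f₀ ≫ k) : RelProj.IsProjective f₀ := by
  let i₀ : X₀ ⟶ pullback f k := pullback.lift j f₀ h
  haveI : IsClosedImmersion (i₀ ≫ pullback.fst f k) := by
    rw [pullback.lift_fst]; infer_instance
  haveI : IsClosedImmersion i₀ := IsClosedImmersion.of_comp_isClosedImmersion i₀ (pullback.fst f k)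
  have := isProjective_closedImmersion_comp (isProjective_pullback_snd hf k) i₀
  rwa [pullback.lift_snd] at this

end Groth.Agent.RelProj34
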