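import Mathlib.RingTheory.GradedAlgebra.HomogeneousLocalization
import Mathlib.RingTheory.GradedAlgebra.Homogeneous.Ideal
import Mathlib.RingTheory.GradedAlgebra.RingHom
import Groth.Agent.ProjQMapX.TN

/-!
# Quotients of graded rings by homogeneous ideals
-/

set_option autoImplicit false
set_option linter.style.haveILetI false
set_option linter.unusedSectionVars false

universe u

open DirectSum HomogeneousLocalization

noncomputable section

namespace Groth.Agent.RelProj34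

variable {A σ : Type u} [CommRing A] [SetLike σ A] [AddSubgroupClass σ A] (𝒜 : ℕ → σ) [GradedRing 𝒜]
  (I : Ideal A)

/-- The image of a homogeneous part in a quotient. -/
def qdeg (n : ℕ) : AddSubgroup (A ⧸ I) :=
  (AddSubgroup.ofClass (𝒜 n)).map (Ideal.Quotient.mk I).toAddMonoidHom

theorem mem_qdeg {n : ℕ} {b : A ⧸ I} : b ∈ qdeg 𝒜 I n ↔ ∃ a ∈ 𝒜 n, Ideal.Quotient.mk I a = b := Iff.rfl

/-- The maps on homogeneous parts. -/
def qmap (n : ℕ) : 𝒜 n →+ qdeg 𝒜 I n where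
  toFun a := ⟨Ideal.Quotient.mk I a, a, a.2, rfl⟩
  map_zero' := Subtype.ext (map_zero _)
  map_add' a b := Subtype.ext (map_add _ (a : A) (b : A))

variable {I} (hI : I.IsHomogeneous 𝒜)

include hI in
theorem qmap_decompose_eq_zero {a : A} (ha : a ∈ I) :
    DirectSum.map (qmap 𝒜 I) (DirectSum.decompose 𝒜 a) = 0 := by
  classical
  refine DFinsupp.ext fun i => Subtype.ext ?_
  rw [DirectSum.map_apply]
  exact Ideal.Quotient.eq_zero_iff_mem.2 (hI i ha)

/-- The decomposition of the quotient. -/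
def qdecompose : A ⧸ I →+ ⨁ n, qdeg 𝒜 I n :=
  QuotientAddGroup.lift I.toAddSubgroup
    ((DirectSum.map (qmap 𝒜 I)).comp (DirectSum.decomposeAddEquiv 𝒜).toAddMonoidHom)
    fun _ ha => qmap_decompose_eq_zero 𝒜 hI ha

theorem qdecompose_mk (a : A) :
    qdecompose 𝒜 hI (Ideal.Quotient.mk I a) = DirectSum.map (qmap 𝒜 I) (DirectSum.decompose 𝒜 a) := rfl

theorem coe_qmap (x : ⨁ n, 𝒜 n) :
    DirectSum.coeAddMonoidHom (qdeg 𝒜 I) (DirectSum.map (qmap 𝒜 I) x) =
      Ideal.Quotient.mk I (DirectSum.coeAddMonoidHom 𝒜 x) := by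
  induction x using DirectSum.induction_on with
  | zero => simp
  | of i b => rw [DirectSum.map_of, DirectSum.coeAddMonoidHom_of, DirectSum.coeAddMonoidHom_of]; rfl
  | add x y hx hy => simp [hx, hy]

instance gradedMonoid_qdeg : SetLike.GradedMonoid (qdeg 𝒜 I) where
  one_mem := ⟨1, SetLike.one_mem_graded 𝒜, rfl⟩
  mul_mem i j a b := by
    rintro ⟨x, hx, rfl⟩ ⟨y, hy, rfl⟩
    exact ⟨x * y, SetLike.mul_mem_graded hx hy, map_mul (Ideal.Quotient.mk I) x y⟩

/-- The quotient of a graded ring by a homogeneous ideal is graded. -/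
@[implicit_reducible]
def qGraded : GradedRing (qdeg 𝒜 I) :=
  { gradedMonoid_qdeg 𝒜,
    DirectSum.Decomposition.ofAddHom (qdeg 𝒜 I) (qdecompose 𝒜 hI)
      (by
        refine AddMonoidHom.ext fun b => ?_
        obtain ⟨a, rfl⟩ := Ideal.Quotient.mk_surjective b
        show DirectSum.coeAddMonoidHom (qdeg 𝒜 I) (DirectSum.map (qmap 𝒜 I) (DirectSum.decompose 𝒜 a)) = _
        rw [coe_qmap, show DirectSum.coeAddMonoidHom 𝒜 (DirectSum.decompose 𝒜 a) = a
          from (DirectSum.decompose 𝒜).symm_apply_apply _]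
        rfl)
      (by
        refine DirectSum.addHom_ext fun i b => ?_
        obtain ⟨b, a, ha, rfl⟩ := b
        rw [AddMonoidHom.comp_apply, DirectSum.coeAddMonoidHom_of]
        show DirectSum.map (qmap 𝒜 I) (DirectSum.decompose 𝒜 a) = _
        rw [DirectSum.decompose_of_mem 𝒜 ha, DirectSum.map_of]
        rfl) with }

/-- The quotient map as a graded homomorphism. -/
def qHom : 𝒜 →+*ᵍ qdeg 𝒜 I :=
  { Ideal.Quotient.mk I with map_mem := fun {i a} ha => ⟨a, ha, rfl⟩ }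

theorem qHom_apply (a : A) : qHom 𝒜 (I := I) a = Ideal.Quotient.mk I a := rfl

/-- Restating that a graded homomorphism is surjective in degrees, from surjectivity. -/
theorem exists_homogeneous_preimage {B τ : Type u} [CommRing B] [SetLike τ B] [AddSubgroupClass τ B]
    {ℬ : ℕ → τ} [GradedRing ℬ] (ψ : 𝒜 →+*ᵍ ℬ) (hψ : Function.Surjective ψ) {n : ℕ} {b : B}
    (hb : b ∈ ℬ n) : ∃ a ∈ 𝒜 n, ψ a = b := by
  obtain ⟨a, rfl⟩ := hψ b
  refine ⟨DirectSum.decompose 𝒜 a n, SetLike.coe_mem _, ?_⟩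
  rw [GradedRingHom.map_directSumDecompose, DirectSum.decompose_of_mem_same ℬ hb]

theorem awayMap_surjective {B τ : Type u} [CommRing B] [SetLike τ B] [AddSubgroupClass τ B]
    {ℬ : ℕ → τ} [GradedRing ℬ] (ψ : 𝒜 →+*ᵍ ℬ) (hψ : Function.Surjective ψ) {d : ℕ} {f : A}
    (hd : 0 < d) (hf : f ∈ 𝒜 d) : Function.Surjective (Away.map ψ f) :=
  ProjQMapX.awayMap_surjective_of_TN ψ (n := 0)
    (fun _ _ _ hb => exists_homogeneous_preimage 𝒜 ψ hψ hb) hd hf

theorem awayMap_eq_zero_iff {B τ : Type u} [CommRing B] [SetLike τ B] [AddSubgroupClass τ B]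
    {ℬ : ℕ → τ} [GradedRing ℬ] (ψ : 𝒜 →+*ᵍ ℬ) {d : ℕ} {f : A} (hf : f ∈ 𝒜 d) {n : ℕ} {a : A}
    (ha : a ∈ 𝒜 (n • d)) :
    Away.map ψ f (Away.mk 𝒜 hf n a ha) = 0 ↔ ∃ m : ℕ, ψ (f ^ m * a) = 0 := by
  rw [← (val_injective (Submonoid.powers (ψ f))).eq_iff, Away.map_mk, Away.val_mk, val_zero,
    Localization.mk_eq_mk', IsLocalization.mk'_eq_zero_iff]
  refine ⟨fun ⟨⟨_, m, rfl⟩, hm⟩ => ⟨m, ?_⟩, fun ⟨m, hm⟩ => ⟨⟨_, m, rfl⟩, ?_⟩⟩
  · rw [map_mul, map_pow]; exact hm
  · rw [map_mul, map_pow] at hm; exact hm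

end Groth.Agent.RelProj34
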