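import Groth.Agent.RelProj34.SatIdeal
import Mathlib.AlgebraicGeometry.ProjectiveSpectrum.Functor

/-!
# The homogeneous ideal commutes with inverting an element of degree zero
-/

set_option autoImplicit false
set_option linter.style.haveILetI false
set_option linter.unusedSectionVars false

universe u

open SetLike HomogeneousLocalization DirectSum
open scoped HomogeneousIdeal

noncomputable section

namespace Groth.Agent.RelProj34

variable {A σ : Type u} [CommRing A] [SetLike σ A] [AddSubgroupClass σ A] {𝒜 : ℕ → σ} [GradedRing 𝒜]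
  {A' σ' : Type u} [CommRing A'] [SetLike σ' A'] [AddSubgroupClass σ' A'] {𝒜' : ℕ → σ'} [GradedRing 𝒜']

theorem irrelevant_le_radical_map {ι : Type*} (φ : 𝒜 →+*ᵍ 𝒜') (hirr : 𝒜'₊ ≤ (𝒜₊).map φ)
    (g : ι → A) (hcov : (𝒜₊).toIdeal ≤ (Ideal.span (Set.range g)).radical) :
    (𝒜'₊).toIdeal ≤ (Ideal.span (Set.range fun i => φ (g i))).radical := by
  refine fun x hx => (le_trans (Ideal.map_mono hcov) (Ideal.map_radical_le (φ : A →+* A'))) (hirr hx) |> fun h => ?_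
  rw [Ideal.map_span, ← Set.range_comp] at h
  exact h

variable (D : KerData 𝒜) (D' : KerData 𝒜') (φ : 𝒜 →+*ᵍ 𝒜') (c : A) [Algebra A A']
  (hφ : ∀ a, algebraMap A A' a = φ a)
  (hres : ∀ {d : ℕ} {f : A}, 0 < d → f ∈ 𝒜 d → ∀ y ∈ D.J f, Away.map φ f y ∈ D'.J (φ f))
  (hloc : ∀ {d : ℕ} {f : A}, 0 < d → f ∈ 𝒜 d → ∀ y' ∈ D'.J (φ f), ∃ (k : ℕ) (z : Away 𝒜 f), z ∈ D.J f ∧
      algebraMap A' (Localization.Away (φ f)) (φ c) ^ k * y'.val = (Away.map φ f z).val)
  {ι : Type*} (g : ι → A) (e : ι → ℕ) (he : ∀ i, 0 < e i) (hg : ∀ i, g i ∈ 𝒜 (e i))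
  (hcov : (𝒜₊).toIdeal ≤ (Ideal.span (Set.range g)).radical)
  (hirr : 𝒜'₊ ≤ (𝒜₊).map φ)

theorem mem_map_iff_exists_pow [IsLocalization.Away c A'] {I : Ideal A} {a : A} :
    algebraMap A A' a ∈ I.map (algebraMap A A') ↔ ∃ k : ℕ, c ^ k * a ∈ I := by
  refine ⟨fun h => ?_, fun ⟨k, hk⟩ => ?_⟩
  · obtain ⟨⟨x, ⟨_, k, rfl⟩⟩, hx⟩ := (IsLocalization.mem_map_algebraMap_iff (Submonoid.powers c) A').1 h
    rw [← map_mul] at hx
    obtain ⟨⟨_, l, rfl⟩, hl⟩ := (IsLocalization.eq_iff_exists (Submonoid.powers c) A').1 hx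
    refine ⟨l + k, ?_⟩
    rw [show c ^ (l + k) * a = c ^ l * (a * c ^ k) by ring]
    exact hl ▸ I.mul_mem_left _ x.2
  · have h := Ideal.mem_map_of_mem (algebraMap A A') hk
    rw [map_mul, map_pow] at h
    exact (Ideal.unit_mul_mem_iff_mem _ ((IsLocalization.Away.algebraMap_isUnit c).pow k)).1 h

include hφ hres in
theorem map_idl_le {d : ℕ} {f : A} (hd : 0 < d) (hf : f ∈ 𝒜 d) :
    (idl D hf).map (algebraMap A A') ≤ idl D' (φ.2 hf) := by
  have h1 : (Ideal.span (numSet D hf)).map (algebraMap A A') ≤ Ideal.span (numSet D' (φ.2 hf)) := by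
    rw [Ideal.map_span, Ideal.span_le]
    rintro _ ⟨t, ⟨n, ht, hJ⟩, rfl⟩
    refine Ideal.subset_span ⟨n, by rw [hφ]; exact φ.2 ht, ?_⟩
    have h := hres hd hf _ hJ
    rw [Away.map_mk] at h
    convert h using 2
    all_goals first | exact hφ t | rfl
  rw [Ideal.map_le_iff_le_comap]
  intro a ha
  obtain ⟨m, hm⟩ := mem_sat.1 ha
  refine mem_sat.2 ⟨m, ?_⟩
  show φ f ^ m * algebraMap A A' a ∈ _
  rw [← hφ, ← map_pow, ← map_mul]
  exact h1 (Ideal.mem_map_of_mem _ hm)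

include hφ hloc in
theorem span_numSet_le [IsLocalization.Away c A'] {d : ℕ} {f : A} (hd : 0 < d) (hf : f ∈ 𝒜 d) :
    Ideal.span (numSet D' (φ.2 hf)) ≤ sat (φ f) ((Ideal.span (numSet D hf)).map (algebraMap A A')) := by
  rw [Ideal.span_le]
  rintro t ⟨n, ht, hJ⟩
  obtain ⟨k, z, hz, heq⟩ := hloc hd hf _ hJ
  obtain ⟨q, b, hb, rfl⟩ := z.mk_surjective 𝒜 hf
  rw [Away.map_mk, Away.val_mk, Away.val_mk, ← map_pow, ← Localization.mk_one_eq_algebraMap,
    Localization.mk_mul, one_mul, Localization.mk_eq_mk_iff, Localization.r_iff_exists] at heq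
  obtain ⟨⟨_, M, rfl⟩, hM⟩ := heq
  replace hM : φ f ^ M * (φ f ^ q * (φ c ^ k * t)) = φ f ^ M * (φ f ^ n * φ b) := hM
  have hu : IsUnit (φ c ^ k) := by
    rw [← hφ]; exact (IsLocalization.Away.algebraMap_isUnit c).pow k
  refine mem_sat.2 ⟨M + q, (Ideal.unit_mul_mem_iff_mem _ hu).1 ?_⟩
  rw [show φ c ^ k * (φ f ^ (M + q) * t) = φ f ^ M * (φ f ^ q * (φ c ^ k * t)) by ring, hM]
  refine Ideal.mul_mem_left _ _ (Ideal.mul_mem_left _ _ ?_)
  rw [← hφ]
  exact Ideal.mem_map_of_mem _ (Ideal.subset_span ⟨q, hb, hz⟩)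

include hφ hres hloc he hg hcov hirr in
theorem satIdeal_eq_map [IsLocalization.Away c A'] [Finite ι] :
    satIdeal D' = (satIdeal D).map (algebraMap A A') := by
  cases nonempty_fintype ι
  have hcov' := irrelevant_le_radical_map φ hirr g hcov
  refine le_antisymm (fun a' ha' => ?_) ?_
  · obtain ⟨⟨a, ⟨_, k, rfl⟩⟩, hak⟩ := IsLocalization.surj (Submonoid.powers c) a'
    have hu : IsUnit (algebraMap A A' (c ^ k)) := by
      rw [map_pow]; exact (IsLocalization.Away.algebraMap_isUnit c).pow k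
    refine (Ideal.mul_unit_mem_iff_mem _ hu).1 (show a' * algebraMap A A' (c ^ k) ∈ _ from ?_)
    rw [hak]
    have ha : algebraMap A A' a ∈ satIdeal D' := hak ▸ Ideal.mul_mem_right _ _ ha'
    have hi : ∀ i, ∃ m : ℕ, c ^ m * a ∈ idl D (hg i) := fun i => by
      obtain ⟨m, hm⟩ := mem_sat.1 ((mem_satIdeal D').1 ha _ _ (he i) (φ.2 (hg i)))
      obtain ⟨l, hl⟩ := mem_sat.1 (span_numSet_le D D' φ c hφ @hloc (he i) (hg i) hm)
      change φ (g i) ^ l * (φ (g i) ^ m * algebraMap A A' a) ∈ _ at hl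
      rw [← hφ, ← map_pow, ← map_pow, ← map_mul, ← map_mul, mem_map_iff_exists_pow c] at hl
      obtain ⟨m', hm'⟩ := hl
      refine ⟨m', mem_sat.2 ⟨l + m, ?_⟩⟩
      rw [show g i ^ (l + m) * (c ^ m' * a) = c ^ m' * (g i ^ l * (g i ^ m * a)) by ring]
      exact hm'
    choose m hm using hi
    refine (mem_map_iff_exists_pow c).2 ⟨Finset.univ.sup m, (mem_satIdeal_iff D g e he hg hcov).2 fun i => ?_⟩
    rw [← Nat.sub_add_cancel (Finset.le_sup (f := m) (Finset.mem_univ i)), pow_add, mul_assoc]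
    exact Ideal.mul_mem_left _ _ (hm i)
  · intro a' ha'
    refine (mem_satIdeal_iff D' (fun i => φ (g i)) e he (fun i => φ.2 (hg i)) hcov').2 fun i => ?_
    exact map_idl_le D D' φ hφ @hres (he i) (hg i)
      (Ideal.map_mono (fun a ha => (mem_satIdeal D).1 ha _ _ (he i) (hg i)) ha')

end Groth.Agent.RelProj34
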