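import Groth.Prelude.Def_RelProj
import Groth.Agent.SymAlgX.AffFun
import Groth.Agent.SymAlgX.Grading
import Groth.Agent.RelProj34.QuotGrad
import Groth.Agent.RelProj34.SatLoc

/-!
# Quotients of graded quasi-coherent algebras by homogeneous ideals given on affine opens
-/

set_option autoImplicit false
set_option linter.style.haveILetI false
set_option linter.unusedSectionVars false

universe u

open CategoryTheory CategoryTheory.Limits AlgebraicGeometry TopologicalSpace Opposite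
open scoped HomogeneousIdeal

noncomputable section

namespace Groth.Agent.RelProj34

variable {S : Scheme.{u}} (𝒜 : RelProj.QCGrAlg S)

/-- Homogeneous ideals on the affine opens, compatible with basic opens. -/
structure IdealFam where
  /-- the ideals -/
  I : ∀ (U : S.Opens), IsAffineOpen U → Ideal (𝒜.presheaf.obj (op U))
  hom : ∀ (U : S.Opens) (hU : IsAffineOpen U), (I U hU).IsHomogeneous (𝒜.deg U hU)
  loc : ∀ (U : S.Opens) (hU : IsAffineOpen U) (r : Γ(S, U)),
    I (S.basicOpen r) (hU.basicOpen r) =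
      (I U hU).map (𝒜.presheaf.map (homOfLE (S.basicOpen_le r)).op).hom

variable {𝒜} (K : IdealFam 𝒜)

namespace IdealFam

/-- Restriction on the affine site. -/
def rs {U V : S.AffineZariskiSite} (i : V ≤ U) :
    𝒜.presheaf.obj (op U.toOpens) →+* 𝒜.presheaf.obj (op V.toOpens) :=
  (𝒜.presheaf.map (homOfLE (Scheme.AffineZariskiSite.toOpens_mono i)).op).hom

theorem le_comap {U V : S.AffineZariskiSite} (i : V ≤ U) :
    K.I U.1 U.2 ≤ (K.I V.1 V.2).comap (rs i) := by
  obtain ⟨V, hV⟩ := V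
  obtain ⟨f, hf⟩ := id i
  obtain rfl : S.basicOpen f = V := hf
  rw [← Ideal.map_le_iff_le_comap]
  exact (K.loc U.1 U.2 f).ge

theorem rs_id (U : S.AffineZariskiSite) (x : 𝒜.presheaf.obj (op U.toOpens)) : rs (le_refl U) x = x := by
  show (𝒜.presheaf.map _).hom x = x
  rw [show (homOfLE _).op = 𝟙 (op U.toOpens) from rfl, CategoryTheory.Functor.map_id]
  rfl

theorem rs_rs {U V W : S.AffineZariskiSite} (i : V ≤ U) (j : W ≤ V) (x : 𝒜.presheaf.obj (op U.toOpens)) :
    rs j (rs i x) = rs (le_trans j i) x := by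
  show (𝒜.presheaf.map _).hom ((𝒜.presheaf.map _).hom x) = (𝒜.presheaf.map _).hom x
  rw [← CommRingCat.comp_apply, ← Functor.map_comp]
  rfl

/-- The quotient functor on affine opens. -/
def qPre : S.AffineZariskiSiteᵒᵖ ⥤ CommRingCat.{u} where
  obj U := CommRingCat.of (𝒜.presheaf.obj (op U.unop.toOpens) ⧸ K.I U.unop.1 U.unop.2)
  map i := CommRingCat.ofHom (Ideal.quotientMap _ (rs i.unop.le) (K.le_comap i.unop.le))
  map_id U := CommRingCat.hom_ext (Ideal.Quotient.ringHom_ext (RingHom.ext fun x =>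
    congrArg (Ideal.Quotient.mk _) (rs_id U.unop x)))
  map_comp i j := CommRingCat.hom_ext (Ideal.Quotient.ringHom_ext (RingHom.ext fun x =>
    congrArg (Ideal.Quotient.mk _) (rs_rs i.unop.le j.unop.le x).symm))

/-- The quotient map. -/
def qProj : (Scheme.AffineZariskiSite.toOpensFunctor S).op ⋙ 𝒜.presheaf ⟶ K.qPre where
  app U := CommRingCat.ofHom (Ideal.Quotient.mk (K.I U.unop.1 U.unop.2))
  naturality _ _ _ := rfl

/-- The structure map. -/
def qStr : (Scheme.AffineZariskiSite.toOpensFunctor S).op ⋙ S.presheaf ⟶ K.qPre :=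
  (Scheme.AffineZariskiSite.toOpensFunctor S).op.whiskerLeft 𝒜.str ≫ K.qProj

theorem qStr_coequifibered : K.qStr.Coequifibered := by
  rw [Scheme.AffineZariskiSite.coequifibered_iff_forall_isLocalizationAway]
  intro U r
  let A := 𝒜.presheaf.obj (op U.1)
  let c : A := (𝒜.str.app (op U.1)).hom r
  let D := S.basicOpen r
  let ρ : A →+* 𝒜.presheaf.obj (op D) := (𝒜.presheaf.map (homOfLE (S.basicOpen_le r)).op).hom
  letI : Algebra A (𝒜.presheaf.obj (op D)) := ρ.toAlgebra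
  have hloc : IsLocalization.Away c (𝒜.presheaf.obj (op D)) := 𝒜.isQC U.1 U.2 r
  have hI : K.I D (U.2.basicOpen r) = (K.I U.1 U.2).map ρ := K.loc U.1 U.2 r
  letI : Algebra (A ⧸ K.I U.1 U.2) (𝒜.presheaf.obj (op D) ⧸ K.I D (U.2.basicOpen r)) :=
    (Ideal.quotientMap _ (rs (U.basicOpen_le r)) (K.le_comap (U.basicOpen_le r))).toAlgebra
  have hmap : ∀ x : A, algebraMap (A ⧸ K.I U.1 U.2) (𝒜.presheaf.obj (op D) ⧸ K.I D (U.2.basicOpen r))
      (Ideal.Quotient.mk _ x) = Ideal.Quotient.mk _ (ρ x) := fun x => rfl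
  show IsLocalization.Away (Ideal.Quotient.mk (K.I U.1 U.2) c)
    (𝒜.presheaf.obj (op D) ⧸ K.I D (U.2.basicOpen r))
  refine (isLocalization_iff _ _).mpr ⟨?_, fun z => ?_, fun {x y} hxy => ?_⟩
  · rintro ⟨_, n, rfl⟩
    show IsUnit (algebraMap (A ⧸ K.I U.1 U.2) _ (Ideal.Quotient.mk _ c ^ n))
    rw [← map_pow, hmap, map_pow]
    exact ((IsLocalization.Away.algebraMap_isUnit (S := 𝒜.presheaf.obj (op D)) c).map (Ideal.Quotient.mk _)).pow n
  · obtain ⟨z, rfl⟩ := Ideal.Quotient.mk_surjective z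
    obtain ⟨⟨a, ⟨_, n, rfl⟩⟩, ha⟩ := IsLocalization.surj (Submonoid.powers c) z
    refine ⟨(Ideal.Quotient.mk _ a, ⟨_, n, rfl⟩), ?_⟩
    show Ideal.Quotient.mk _ z * algebraMap (A ⧸ K.I U.1 U.2) _ (Ideal.Quotient.mk _ c ^ n) = _
    rw [← map_pow, hmap, hmap, ← map_mul]
    exact congrArg (Ideal.Quotient.mk _) ha
  · obtain ⟨x, rfl⟩ := Ideal.Quotient.mk_surjective x
    obtain ⟨y, rfl⟩ := Ideal.Quotient.mk_surjective y
    rw [hmap, hmap, Ideal.Quotient.eq, ← map_sub, hI] at hxy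
    obtain ⟨k, hk⟩ := (mem_map_iff_exists_pow (A' := 𝒜.presheaf.obj (op D)) c).1 hxy
    refine ⟨⟨_, k, rfl⟩, ?_⟩
    show Ideal.Quotient.mk _ c ^ k * Ideal.Quotient.mk _ x = Ideal.Quotient.mk _ c ^ k * Ideal.Quotient.mk _ y
    rw [← map_pow, ← map_mul, ← map_mul, Ideal.Quotient.eq, ← mul_sub]
    exact hk

/-- The quotient as a functor on affine opens. -/
def qFun : SymAlgX.AffFun S := ⟨K.qPre, K.qStr, K.qStr_coequifibered⟩

/-- The sections of the quotient over an affine open. -/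
def qSec (U : S.Opens) (hU : IsAffineOpen U) :
    K.qFun.alg.presheaf.obj (op U) ≃+* 𝒜.presheaf.obj (op U) ⧸ K.I U hU :=
  (K.qFun.affIso.app (op ⟨U, hU⟩)).commRingCatIsoToRingEquiv

theorem exists_proj : ∃ φ : 𝒜.toQCAlg ⟶ K.qFun.alg, ∀ (U : S.Opens) (hU : IsAffineOpen U)
    (x : 𝒜.presheaf.obj (op U)), K.qSec U hU ((φ.hom.app (op U)).hom x) = Ideal.Quotient.mk _ x := by
  let e := fun ℱ : TopCat.Presheaf CommRingCat.{u} S.carrier =>
    Functor.IsCoverDense.restrictHomEquivHom (G := Scheme.AffineZariskiSite.toOpensFunctor S)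
      (K := Opens.grothendieckTopology S) (ℱ := ℱ)
      (ℱ' := (⟨K.qFun.alg.presheaf, K.qFun.alg.isSheaf⟩ : TopCat.Sheaf CommRingCat.{u} S.carrier))
  let f : 𝒜.presheaf ⟶ K.qFun.alg.presheaf := e _ (K.qProj ≫ K.qFun.affIso.inv)
  have hf : (Scheme.AffineZariskiSite.toOpensFunctor S).op.whiskerLeft f = K.qProj ≫ K.qFun.affIso.inv :=
    (e _).symm_apply_apply _
  refine ⟨⟨f, ?_⟩, fun U hU x => ?_⟩
  · apply (e S.presheaf).symm.injective
    show (Scheme.AffineZariskiSite.toOpensFunctor S).op.whiskerLeft 𝒜.str ≫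
        (Scheme.AffineZariskiSite.toOpensFunctor S).op.whiskerLeft f =
      (Scheme.AffineZariskiSite.toOpensFunctor S).op.whiskerLeft K.qFun.alg.str
    rw [hf]
    exact (Category.assoc _ _ _).symm.trans ((Iso.comp_inv_eq K.qFun.affIso).mpr K.qFun.str_affIso.symm)
  · show (K.qFun.affIso.hom.app (op ⟨U, hU⟩)).hom ((f.app (op U)).hom x) = _
    have h := congrArg (fun t => t.app (op (⟨U, hU⟩ : S.AffineZariskiSite))) hf
    rw [show f.app (op U) = K.qProj.app (op ⟨U, hU⟩) ≫ K.qFun.affIso.inv.app (op ⟨U, hU⟩) from h]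
    exact CategoryTheory.congr_fun (K.qFun.affIso.inv_hom_id_app (op ⟨U, hU⟩)) _

/-- The quotient map of algebras. -/
def proj : 𝒜.toQCAlg ⟶ K.qFun.alg := K.exists_proj.choose

theorem qSec_proj (U : S.Opens) (hU : IsAffineOpen U) (x : 𝒜.presheaf.obj (op U)) :
    K.qSec U hU ((K.proj.hom.app (op U)).hom x) = Ideal.Quotient.mk _ x :=
  K.exists_proj.choose_spec U hU x

theorem proj_surjective (U : S.Opens) (hU : IsAffineOpen U) :
    Function.Surjective (K.proj.hom.app (op U)).hom := fun b => by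
  obtain ⟨x, hx⟩ := Ideal.Quotient.mk_surjective (K.qSec U hU b)
  exact ⟨x, (K.qSec U hU).injective ((K.qSec_proj U hU x).trans hx)⟩

theorem proj_eq_zero_iff (U : S.Opens) (hU : IsAffineOpen U) (x : 𝒜.presheaf.obj (op U)) :
    (K.proj.hom.app (op U)).hom x = 0 ↔ x ∈ K.I U hU := by
  rw [← Ideal.Quotient.eq_zero_iff_mem, ← K.qSec_proj U hU x, map_eq_zero_iff _ (K.qSec U hU).injective]

/-- Degrees on the quotient. -/
def qDeg (U : S.Opens) (hU : IsAffineOpen U) (n : ℕ) : AddSubgroup (K.qFun.alg.presheaf.obj (op U)) :=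
  (qdeg (𝒜.deg U hU) (K.I U hU) n).comap (K.qSec U hU).toRingHom.toAddMonoidHom

theorem proj_mem (U : S.Opens) (hU : IsAffineOpen U) {n : ℕ} {x : 𝒜.presheaf.obj (op U)}
    (hx : x ∈ 𝒜.deg U hU n) : (K.proj.hom.app (op U)).hom x ∈ K.qDeg U hU n := by
  show K.qSec U hU _ ∈ qdeg (𝒜.deg U hU) (K.I U hU) n
  rw [qSec_proj]
  exact ⟨x, hx, rfl⟩

theorem exists_preimage_of_mem (U : S.Opens) (hU : IsAffineOpen U) {n : ℕ}
    {b : K.qFun.alg.presheaf.obj (op U)} (hb : b ∈ K.qDeg U hU n) :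
    ∃ x ∈ 𝒜.deg U hU n, (K.proj.hom.app (op U)).hom x = b := by
  obtain ⟨x, hx, e⟩ := hb
  exact ⟨x, hx, (K.qSec U hU).injective ((K.qSec_proj U hU x).trans e)⟩

/-- The quotient graded algebra. -/
def qAlg : RelProj.QCGrAlg S where
  toQCAlg := K.qFun.alg
  deg := K.qDeg
  graded U hU :=
    letI := qGraded (𝒜.deg U hU) (K.hom U hU)
    SymAlgX.gradedRingDegComap (K.qSec U hU) (qdeg (𝒜.deg U hU) (K.I U hU))
  map_mem {U V} hU hV i {d x} hx := by
    obtain ⟨a, ha, rfl⟩ := K.exists_preimage_of_mem U hU hx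
    rw [show (K.qFun.alg.presheaf.map (homOfLE i).op).hom ((K.proj.hom.app (op U)).hom a) =
      (K.proj.hom.app (op V)).hom ((𝒜.presheaf.map (homOfLE i).op).hom a) from
      (CategoryTheory.congr_fun (K.proj.hom.naturality (homOfLE i).op) a).symm]
    exact K.proj_mem V hV (𝒜.map_mem hU hV i ha)
  str_mem U hU r := by
    rw [show (K.qFun.alg.str.app (op U)).hom r = (K.proj.hom.app (op U)).hom ((𝒜.str.app (op U)).hom r) from
      (CategoryTheory.congr_fun (NatTrans.congr_app K.proj.comm (op U)) r).symm]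
    exact K.proj_mem U hU (𝒜.str_mem U hU r)

/-- The quotient map, into the graded algebra. -/
def qMap : 𝒜.toQCAlg ⟶ K.qAlg.toQCAlg := K.proj

theorem isGradedHom_qMap : RelProj.IsGradedHom K.qMap := fun U hU _ _ hx => K.proj_mem U hU hx

end IdealFam

end Groth.Agent.RelProj34
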