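import Mathlib.RingTheory.GradedAlgebra.HomogeneousLocalization
import Mathlib.RingTheory.GradedAlgebra.Homogeneous.Ideal
import Mathlib.RingTheory.Localization.Ideal
import Groth.Agent.Proj16.Graded

/-!
# The homogeneous ideal of compatible ideals in degree zero localizations
-/

set_option autoImplicit false
set_option linter.style.haveILetI false
set_option linter.unusedSectionVars false

universe u

open SetLike HomogeneousLocalization DirectSum
open scoped HomogeneousIdeal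

noncomputable section

namespace Groth.Agent.RelProj34

variable {A σ : Type u} [CommRing A] [SetLike σ A] [AddSubgroupClass σ A] (𝒜 : ℕ → σ) [GradedRing 𝒜]

/-- Compatible ideals in the degree zero localizations. -/
structure KerData where
  /-- the ideals -/
  J : ∀ f : A, Ideal (Away 𝒜 f)
  res : ∀ {d e : ℕ} {f g x : A} (_hd : 0 < d) (_hf : f ∈ 𝒜 d) (_he : 0 < e) (hg : g ∈ 𝒜 e)
    (hx : x = f * g), ∀ y ∈ J f, awayMap 𝒜 hg hx y ∈ J x
  loc : ∀ {d e : ℕ} {f g x : A} (_hd : 0 < d) (hf : f ∈ 𝒜 d) (_he : 0 < e) (hg : g ∈ 𝒜 e)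
    (hx : x = f * g), ∀ y ∈ J x, ∃ (k : ℕ) (z : Away 𝒜 f), z ∈ J f ∧
      y * awayMap 𝒜 hg hx (Away.isLocalizationElem hf hg) ^ k = awayMap 𝒜 hg hx z

/-- Saturation of an ideal with respect to an element. -/
def sat (f : A) (I : Ideal A) : Ideal A where
  carrier := {a | ∃ m : ℕ, f ^ m * a ∈ I}
  zero_mem' := ⟨0, by simp⟩
  add_mem' := by
    rintro a b ⟨m, hm⟩ ⟨n, hn⟩
    refine ⟨m + n, ?_⟩
    rw [show f ^ (m + n) * (a + b) = f ^ n * (f ^ m * a) + f ^ m * (f ^ n * b) by ring]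
    exact add_mem (I.mul_mem_left _ hm) (I.mul_mem_left _ hn)
  smul_mem' c a := by
    rintro ⟨m, hm⟩
    refine ⟨m, ?_⟩
    rw [smul_eq_mul, show f ^ m * (c * a) = c * (f ^ m * a) by ring]
    exact I.mul_mem_left _ hm

theorem mem_sat {f : A} {I : Ideal A} {a : A} : a ∈ sat f I ↔ ∃ m : ℕ, f ^ m * a ∈ I := Iff.rfl

theorem sat_mono {f : A} {I I' : Ideal A} (h : I ≤ I') : sat f I ≤ sat f I' :=
  fun _ ⟨m, hm⟩ => ⟨m, h hm⟩

theorem le_sat (f : A) (I : Ideal A) : I ≤ sat f I := fun a ha => ⟨0, by simpa using ha⟩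

variable {𝒜} (D : KerData 𝒜)

/-- The homogeneous numerators. -/
def numSet {d : ℕ} {f : A} (hf : f ∈ 𝒜 d) : Set A :=
  {t | ∃ (n : ℕ) (ht : t ∈ 𝒜 (n • d)), Away.mk 𝒜 hf n t ht ∈ D.J f}

/-- The ideal of elements vanishing on `D₊(f)`. -/
def idl {d : ℕ} {f : A} (hf : f ∈ 𝒜 d) : Ideal A := sat f (Ideal.span (numSet D hf))

theorem isHomogeneous_idl {d : ℕ} {f : A} (hf : f ∈ 𝒜 d) : (idl D hf).IsHomogeneous 𝒜 := by
  intro i a ha
  obtain ⟨m, hm⟩ := mem_sat.1 ha
  refine mem_sat.2 ⟨m, ?_⟩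
  have h := (Ideal.homogeneous_span 𝒜 (numSet D hf) fun x ⟨n, hx, _⟩ => ⟨_, hx⟩) (m • d + i) hm
  rwa [DirectSum.coe_decompose_mul_add_of_left_mem 𝒜 (SetLike.pow_mem_graded m hf)] at h

theorem idl_congr {d d' : ℕ} {f : A} (hf : f ∈ 𝒜 d) (hf' : f ∈ 𝒜 d') (h : d = d') :
    idl D hf = idl D hf' := by
  subst h; rfl

theorem numSet_le_idl {d : ℕ} {f : A} (hf : f ∈ 𝒜 d) : numSet D hf ⊆ idl D hf :=
  fun _ ht => le_sat _ _ (Ideal.subset_span ht)

theorem mem_J_of_mem_idl {d : ℕ} (hd : 0 < d) {f : A} (hf : f ∈ 𝒜 d) {n : ℕ} {a : A}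
    (ha : a ∈ 𝒜 (n • d)) (h : a ∈ idl D hf) : Away.mk 𝒜 hf n a ha ∈ D.J f := by
  classical
  let M : ℕ → A → Away 𝒜 f := fun N x =>
    Away.mk 𝒜 hf N (GradedRing.proj 𝒜 (N • d) x) (by rw [GradedRing.proj_apply]; exact SetLike.coe_mem _)
  have key : ∀ x ∈ Ideal.span (numSet D hf), ∀ (c : A) (N : ℕ), M N (c * x) ∈ D.J f := by
    intro x hx
    induction hx using Submodule.span_induction with
    | mem t ht =>
      intro c N
      obtain ⟨k, ht, hJ⟩ := ht
      by_cases hkN : k ≤ N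
      · have he : M N (c * t) = Away.mk 𝒜 hf (N - k) (GradedRing.proj 𝒜 ((N - k) • d) c)
            (by rw [GradedRing.proj_apply]; exact SetLike.coe_mem _) * Away.mk 𝒜 hf k t ht := by
          apply val_injective
          rw [HomogeneousLocalization.val_mul, Away.val_mk, Away.val_mk, Away.val_mk,
            Localization.mk_mul]
          congr 1
          · rw [GradedRing.proj_apply, GradedRing.proj_apply,
              DirectSum.coe_decompose_mul_of_right_mem_of_le 𝒜 ht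
                (by simpa using Nat.mul_le_mul_right d hkN)]
            simp only [smul_eq_mul]
            rw [Nat.sub_mul]
          · exact Subtype.ext (show f ^ N = f ^ (N - k) * f ^ k by rw [← pow_add, Nat.sub_add_cancel hkN])
        rw [he]
        exact Ideal.mul_mem_left _ _ hJ
      · have he : M N (c * t) = 0 := by
          apply val_injective
          rw [Away.val_mk, val_zero, GradedRing.proj_apply,
            DirectSum.coe_decompose_mul_of_right_mem_of_not_le 𝒜 ht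
              (by simpa using fun hle => hkN (Nat.le_of_mul_le_mul_right hle hd)),
            Localization.mk_zero]
        rw [he]
        exact zero_mem _
    | zero =>
      intro c N
      have he : M N (c * 0) = 0 := by
        apply val_injective
        rw [Away.val_mk, val_zero, mul_zero, map_zero, Localization.mk_zero]
      rw [he]
      exact zero_mem _
    | add x y _ _ hx hy =>
      intro c N
      have he : M N (c * (x + y)) = M N (c * x) + M N (c * y) := by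
        apply val_injective
        rw [HomogeneousLocalization.val_add, Away.val_mk, Away.val_mk, Away.val_mk, mul_add, map_add,
          Localization.add_mk_self]
      rw [he]
      exact add_mem (hx c N) (hy c N)
    | smul r x _ hx =>
      intro c N
      rw [smul_eq_mul, ← mul_assoc]
      exact hx (c * r) N
  obtain ⟨m, hm⟩ := mem_sat.1 h
  have h1 := key _ hm 1 (m + n)
  have he : M (m + n) (1 * (f ^ m * a)) = Away.mk 𝒜 hf n a ha := by
    apply val_injective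
    rw [Away.val_mk, Away.val_mk, one_mul, GradedRing.proj_apply,
      DirectSum.decompose_of_mem_same 𝒜 (by
        rw [add_smul]; exact SetLike.mul_mem_graded (SetLike.pow_mem_graded m hf) ha),
      Localization.mk_eq_mk_iff, Localization.r_iff_exists]
    exact ⟨1, by simp [pow_add]; ring⟩
  rwa [he] at h1

theorem span_numSet_mul {d e : ℕ} (hd : 0 < d) (he : 0 < e) {f g : A} (hf : f ∈ 𝒜 d) (hg : g ∈ 𝒜 e)
    {x : A} (hx : x = f * g) (hxm : x ∈ 𝒜 (d + e)) :
    Ideal.span (numSet D hf) ≤ sat g (Ideal.span (numSet D hxm)) := by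
  rw [Ideal.span_le]
  rintro t ⟨n, ht, hJ⟩
  have h := D.res hd hf he hg hx _ hJ
  rw [awayMap_mk] at h
  exact mem_sat.2 ⟨n, Ideal.subset_span ⟨n, by
    rw [smul_add, mul_comm (g ^ n)]
    exact SetLike.mul_mem_graded ht (SetLike.pow_mem_graded n hg), by simpa [mul_comm (g ^ n)] using h⟩⟩

theorem idl_le_mul {d e : ℕ} (hd : 0 < d) (he : 0 < e) {f g : A} (hf : f ∈ 𝒜 d) (hg : g ∈ 𝒜 e)
    {x : A} (hx : x = f * g) (hxm : x ∈ 𝒜 (d + e)) : idl D hf ≤ idl D hxm := by
  intro a ha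
  obtain ⟨m, hm⟩ := mem_sat.1 ha
  obtain ⟨n, hn⟩ := mem_sat.1 (span_numSet_mul D hd he hf hg hx hxm hm)
  refine mem_sat.2 ⟨m + n, ?_⟩
  rw [show x ^ (m + n) * a = f ^ n * g ^ m * (g ^ n * (f ^ m * a)) by rw [hx]; ring]
  exact Ideal.mul_mem_left _ _ hn

theorem idl_mul_le {d e : ℕ} (hd : 0 < d) (he : 0 < e) {f g : A} (hf : f ∈ 𝒜 d) (hg : g ∈ 𝒜 e)
    {x : A} (hx : x = f * g) (hxm : x ∈ 𝒜 (d + e)) : idl D hxm ≤ sat g (idl D hf) := by
  have key : Ideal.span (numSet D hxm) ≤ sat g (idl D hf) := by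
    rw [Ideal.span_le]
    rintro c ⟨n, hc, hJ⟩
    obtain ⟨k, z, hz, heq⟩ := D.loc hd hf he hg hx _ hJ
    obtain ⟨q, b, hb, rfl⟩ := z.mk_surjective 𝒜 hf
    have hv := congrArg HomogeneousLocalization.val heq
    rw [awayMap_mk, awayMap_mk, HomogeneousLocalization.val_mul, HomogeneousLocalization.val_pow,
      Away.val_mk, Away.val_mk, Away.val_mk, Localization.mk_pow, Localization.mk_mul,
      Localization.mk_eq_mk_iff, Localization.r_iff_exists] at hv
    obtain ⟨⟨_, M, rfl⟩, hM⟩ := hv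
    replace hM : x ^ M * (x ^ q * (c * (g ^ d * g ^ e) ^ k)) =
        x ^ M * (x ^ n * (x ^ e) ^ k * (b * g ^ q)) := hM
    refine mem_sat.2 ⟨M + q + d * k + e * k, mem_sat.2 ⟨M + q, ?_⟩⟩
    have h0 : f ^ (M + q) * (g ^ (M + q + d * k + e * k) * c) =
        b * (g ^ q * (x ^ n * (x ^ e) ^ k * x ^ M)) := by
      rw [show f ^ (M + q) * (g ^ (M + q + d * k + e * k) * c) =
          x ^ M * (x ^ q * (c * (g ^ d * g ^ e) ^ k)) by rw [hx]; ring, hM]
      ring
    rw [h0]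
    exact Ideal.mul_mem_right _ _ (Ideal.subset_span ⟨q, hb, hz⟩)
  intro a ha
  obtain ⟨m, hm⟩ := mem_sat.1 ha
  obtain ⟨k, hk⟩ := mem_sat.1 (key hm)
  obtain ⟨l, hl⟩ := mem_sat.1 hk
  refine mem_sat.2 ⟨k + m, mem_sat.2 ⟨l + m, ?_⟩⟩
  rw [show f ^ (l + m) * (g ^ (k + m) * a) = f ^ l * (g ^ k * (x ^ m * a)) by rw [hx]; ring]
  exact hl

/-- The homogeneous ideal of the data. -/
def satIdeal : Ideal A := ⨅ (d : ℕ) (f : A) (_ : 0 < d) (hf : f ∈ 𝒜 d), idl D hf

theorem mem_satIdeal {a : A} :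
    a ∈ satIdeal D ↔ ∀ (d : ℕ) (f : A), 0 < d → ∀ hf : f ∈ 𝒜 d, a ∈ idl D hf := by
  simp only [satIdeal, Submodule.mem_iInf]

theorem isHomogeneous_satIdeal : (satIdeal D).IsHomogeneous 𝒜 := fun i _ ha =>
  (mem_satIdeal D).2 fun d f hd hf => isHomogeneous_idl D hf i ((mem_satIdeal D).1 ha d f hd hf)

section cover

variable {ι : Type*} (g : ι → A) (e : ι → ℕ) (he : ∀ i, 0 < e i) (hg : ∀ i, g i ∈ 𝒜 (e i))
  (hcov : (HomogeneousIdeal.irrelevant 𝒜).toIdeal ≤ (Ideal.span (Set.range g)).radical)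

include he hcov in
theorem mem_satIdeal_iff {a : A} : a ∈ satIdeal D ↔ ∀ i, a ∈ idl D (hg i) := by
  refine ⟨fun h i => (mem_satIdeal D).1 h _ _ (he i) (hg i), fun h => (mem_satIdeal D).2 fun d f hd hf => ?_⟩
  let K : Ideal A :=
    { carrier := {r | r * a ∈ idl D hf}
      zero_mem' := by simp
      add_mem' := fun {r s} hr hs => by
        show (r + s) * a ∈ idl D hf
        rw [add_mul]; exact add_mem hr hs
      smul_mem' := fun c r hr => by
        show c * r * a ∈ idl D hf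
        rw [mul_assoc]; exact Ideal.mul_mem_left _ _ hr }
  have hK : f ∈ K.radical := by
    refine Ideal.radical_le_radical_iff.2 (Ideal.span_le.2 ?_)
      (hcov (HomogeneousIdeal.mem_irrelevant_of_mem 𝒜 hd hf))
    rintro _ ⟨i, rfl⟩
    have hm : f * g i ∈ 𝒜 (e i + d) := by
      rw [add_comm]; exact SetLike.mul_mem_graded hf (hg i)
    have hm' : f * g i ∈ 𝒜 (d + e i) := SetLike.mul_mem_graded hf (hg i)
    obtain ⟨m, hmm⟩ := mem_sat.1 (idl_mul_le D hd (he i) hf (hg i) rfl hm'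
      ((idl_congr D hm hm' (add_comm _ _)).le
        (idl_le_mul D (he i) hd (hg i) hf (mul_comm f (g i)) hm (h i))))
    exact ⟨m, hmm⟩
  obtain ⟨N, hN⟩ := hK
  obtain ⟨M, hM⟩ := mem_sat.1 hN
  exact mem_sat.2 ⟨M + N, by rw [pow_add, mul_assoc]; exact hM⟩

include he hg hcov in
theorem exists_pow_mul_mem_satIdeal [Finite ι] {d : ℕ} (hd : 0 < d) {f : A} (hf : f ∈ 𝒜 d) {a : A}
    (ha : a ∈ idl D hf) : ∃ m : ℕ, f ^ m * a ∈ satIdeal D := by
  cases nonempty_fintype ι
  have hk : ∀ i, ∃ m : ℕ, f ^ m * a ∈ idl D (hg i) := fun i => by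
    have hm : g i * f ∈ 𝒜 (e i + d) := SetLike.mul_mem_graded (hg i) hf
    have hm' : f * g i ∈ 𝒜 (d + e i) := SetLike.mul_mem_graded hf (hg i)
    refine mem_sat.1 (idl_mul_le D (he i) hd (hg i) hf rfl hm ?_)
    have hm'' : g i * f ∈ 𝒜 (d + e i) := add_comm (e i) d ▸ hm
    exact (idl_congr D hm'' hm (add_comm _ _)).le (idl_le_mul D hd (he i) hf (hg i) (mul_comm (g i) f) hm'' ha)
  choose m hm using hk
  refine ⟨Finset.univ.sup m, (mem_satIdeal_iff D g e he hg hcov).2 fun i => ?_⟩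
  rw [← Nat.sub_add_cancel (Finset.le_sup (f := m) (Finset.mem_univ i)), pow_add, mul_assoc]
  exact Ideal.mul_mem_left _ _ (hm i)

include he hg hcov in
theorem mk_mem_J_iff [Finite ι] {d : ℕ} (hd : 0 < d) {f : A} (hf : f ∈ 𝒜 d) {n : ℕ} {a : A}
    (ha : a ∈ 𝒜 (n • d)) :
    Away.mk 𝒜 hf n a ha ∈ D.J f ↔ ∃ m : ℕ, f ^ m * a ∈ satIdeal D := by
  refine ⟨fun h => exists_pow_mul_mem_satIdeal D g e he hg hcov hd hf
    (numSet_le_idl D hf ⟨n, ha, h⟩), fun ⟨m, h⟩ => mem_J_of_mem_idl D hd hf ha ?_⟩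
  obtain ⟨k, hk⟩ := mem_sat.1 ((mem_satIdeal D).1 h d f hd hf)
  exact mem_sat.2 ⟨k + m, by rw [pow_add, mul_assoc]; exact hk⟩

end cover

end Groth.Agent.RelProj34
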