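import Groth.Agent.RLPsi35.Taut
import Groth.Agent.RLPsi35.TwFrame
import Groth.Agent.AmpleX.Rel
import Groth.Agent.AmpleX.Sect
import Groth.Agent.RelTildeX.Chart

/-!
# `O(n)` on a relative `Proj` is relatively ample when degree `n` covers
-/

universe u

set_option backward.isDefEq.respectTransparency false
set_option backward.isDefEq.respectTransparency.types false

open CategoryTheory CategoryTheory.Limits AlgebraicGeometry TopologicalSpace Opposite
open Groth.Agent.H23.PicMul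

noncomputable section

namespace Groth.Agent.RelProj34

open RLPsi35 AmpleX

variable {Y P : Scheme.{u}} {𝒮 : RelProj.QCGrAlg Y} {p : P ⟶ Y}
  {chart : ∀ (U : Y.Opens) (hU : IsAffineOpen U), (((p ⁻¹ᵁ U : P.Opens) : Scheme.{u}) ≅ Proj (𝒮.deg U hU))}
  {n : ℕ} {On : P.Modules}
  {lam : ∀ (U : Y.Opens) (hU : IsAffineOpen U),
    On ⟶ (Scheme.Modules.pushforward (RelProj.emb p chart U hU)).obj (GrTwist.twist (𝒮.deg U hU) (n : ℤ))}

variable (𝒮) in
/-- The degree `n` elements over `U` have no common zero. -/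
def DegCovers (n : ℕ) (U : Y.Opens) (hU : IsAffineOpen U) : Prop :=
  ∀ y : ProjectiveSpectrum (𝒮.deg U hU), ∃ a ∈ 𝒮.deg U hU n, a ∉ y.asHomogeneousIdeal

/-- The fraction `a² / a`. -/
@[reducible] def sqFI (hn : 0 < n) {U : Y.Opens} (hU : IsAffineOpen U) {a : 𝒮.presheaf.obj (op U)}
    (ha : a ∈ 𝒮.deg U hU n) : FI 𝒮 (n : ℤ) where
  U := U
  hU := hU
  i := n + n
  j := n
  hi := by omega
  hj := hn
  a := a * a
  s := a
  ha := SetLike.mul_mem_graded ha ha
  hs := ha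
  deg_eq := by push_cast; ring

lemma sqFI_op (hn : 0 < n) {U : Y.Opens} (hU : IsAffineOpen U) {a : 𝒮.presheaf.obj (op U)}
    (ha : a ∈ 𝒮.deg U hU n) :
    (sqFI hn hU ha).op p chart = RelProj.emb p chart U hU ''ᵁ Proj.basicOpen (𝒮.deg U hU) a := by
  show RelProj.emb p chart U hU ''ᵁ (Proj.basicOpen (𝒮.deg U hU) (a * a) ⊓ Proj.basicOpen (𝒮.deg U hU) a) = _
  rw [Proj.basicOpen_mul, inf_idem, inf_idem]

variable (hn : 0 < n) (hOn : RelProj.IsRelTwist 𝒮 p chart (n : ℤ) On lam)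

lemma res_gsec_eq_fr {U : Y.Opens} (hU : IsAffineOpen U) {a : 𝒮.presheaf.obj (op U)}
    (ha : a ∈ 𝒮.deg U hU n) :
    AModX.res On (sqFI hn hU ha).op_le (gsec hOn hU ha) = fr hOn (sqFI hn hU ha) := by
  refine (hOn.bijective U hU _ (sqFI hn hU ha).op_le).1 ?_
  refine Eq.trans ?_ (lam_fr hOn (sqFI hn hU ha)).symm
  rw [AModX.app_res, lam_gsec]
  refine Subtype.ext (funext fun y => Subtype.ext ?_)
  show Localization.mk a _ = Localization.mk (a * a) _
  rw [Localization.mk_eq_mk_iff, Localization.r_iff_exists]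
  exact ⟨1, by simp [FI.frac]⟩

include hn in
lemma locus_gsec {U : Y.Opens} (hU : IsAffineOpen U) (hcov : DegCovers 𝒮 n U hU)
    {a : 𝒮.presheaf.obj (op U)} (ha : a ∈ 𝒮.deg U hU n) :
    locus (gsec hOn hU ha) = RelProj.emb p chart U hU ''ᵁ Proj.basicOpen (𝒮.deg U hU) a := by
  refine le_antisymm (fun x hx => ?_) ?_
  · obtain ⟨y, rfl⟩ := ProjQMapX.exists_emb_eq (chart := chart) U hU (locus_le (gsec hOn hU ha) hx)
    obtain ⟨b, hb, hyb⟩ := hcov y
    refine ⟨y, fun hya => ?_, rfl⟩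
    let c := sqFI hn hU hb
    let V : P.Opens := locus (gsec hOn hU ha) ⊓ c.op p chart
    have hyc : RelProj.emb p chart U hU y ∈ c.op p chart := sqFI_op (p := p) (chart := chart) hn hU hb ▸ ⟨y, hyb, rfl⟩
    have hf := isFrame_res_of_le (gsec hOn hU ha) (inf_le_left : V ≤ locus (gsec hOn hU ha))
    obtain ⟨h, hh⟩ := hf.exists_coord le_rfl (AModX.res On (inf_le_right : V ≤ c.op p chart) (fr hOn c))
    rw [AModX.res_self] at hh
    have h1 := congrArg ((lam U hU).app V) hh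
    rw [Scheme.Modules.Hom.app_smul, AModX.app_res, AModX.app_res] at h1
    have h2 := congrArg (fun σ => GrTwist.val (V := RelProj.emb p chart U hU ⁻¹ᵁ V) σ ⟨y, ⟨hx, hyc⟩⟩) h1
    have e1 : GrTwist.val (V := RelProj.emb p chart U hU ⁻¹ᵁ c.op p chart)
        ((lam U hU).app (c.op p chart) (fr hOn c)) ⟨y, hyc⟩ =
        Localization.mk (b * b) (⟨b, hyb⟩ : y.asHomogeneousIdeal.toIdeal.primeCompl) :=
      congrArg (fun σ => GrTwist.val (V := RelProj.emb p chart U hU ⁻¹ᵁ c.op p chart) σ ⟨y, hyc⟩) (lam_fr hOn c)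
    have e2 := val_gsec hOn hU ha ⟨y, ProjQMapX.emb_mem U hU y⟩
    let q : GrTwist.A0 (𝒮.deg U hU) y := ((RelProj.emb p chart U hU).app V h).1 ⟨y, ⟨hx, hyc⟩⟩
    have h3 : Localization.mk (b * b) (⟨b, hyb⟩ : y.asHomogeneousIdeal.toIdeal.primeCompl) =
        q.val * Localization.mk a 1 := by
      rw [← e1, ← e2]
      exact h2.trans (GrTwist.coe_smul_val _ y _ _)
    obtain ⟨s, hs⟩ := HomogeneousLocalization.mk_surjective q
    rw [← hs, HomogeneousLocalization.val_mk, Localization.mk_mul, Localization.mk_eq_mk_iff,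
      Localization.r_iff_exists] at h3
    obtain ⟨t, ht⟩ := h3
    have hmem : (t : 𝒮.presheaf.obj (op U)) * ((s.den : 𝒮.presheaf.obj (op U)) * (b * b)) ∈
        y.asHomogeneousIdeal.toIdeal := by
      have : (t : 𝒮.presheaf.obj (op U)) * ((s.den : 𝒮.presheaf.obj (op U)) * (b * b)) =
          (t : 𝒮.presheaf.obj (op U)) * (b * ((s.num : 𝒮.presheaf.obj (op U)) * a)) := by
        simpa using ht
      rw [this]
      exact Ideal.mul_mem_left _ _ (Ideal.mul_mem_left _ _ (Ideal.mul_mem_left _ _ hya))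
    rcases y.isPrime.mem_or_mem hmem with h | h
    · exact t.2 h
    rcases y.isPrime.mem_or_mem h with h | h
    · exact s.den_mem h
    exact (y.isPrime.mem_or_mem h).elim hyb hyb
  · rw [← sqFI_op (p := p) (chart := chart) hn hU ha]
    refine le_locus _ (sqFI hn hU ha).op_le ?_
    rw [res_gsec_eq_fr hn hOn hU ha]
    exact isFrame_fr hOn _

include hn hOn in
/-- Invertibility. -/
theorem isInvertible_of_degCovers
    (hcov : ∀ x : P, ∃ (U : Y.Opens) (hU : IsAffineOpen U), p x ∈ U ∧ DegCovers 𝒮 n U hU) :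
    PicF.IsInvertible On := by
  refine InvX.isInvertible_of_frames fun x => ?_
  obtain ⟨U, hU, hxU, hc⟩ := hcov x
  obtain ⟨y, rfl⟩ := ProjQMapX.exists_emb_eq (chart := chart) U hU hxU
  obtain ⟨a, ha, hya⟩ := hc y
  exact ⟨_, sqFI_op (p := p) (chart := chart) hn hU ha ▸ ⟨y, hya, rfl⟩, _, isFrame_fr hOn (sqFI hn hU ha)⟩

include hn hOn in
/-- Relative ampleness. -/
theorem isRelAmple_of_degCovers [QuasiCompact p]
    (hcov : ∀ x : P, ∃ (U : Y.Opens) (hU : IsAffineOpen U), p x ∈ U ∧ DegCovers 𝒮 n U hU) :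
    RelAmple.IsRelAmple p On := by
  have hinv := isInvertible_of_degCovers hn hOn hcov
  refine isRelAmple_of_ampleOn fun x => ?_
  obtain ⟨U, hU, hxU, hc⟩ := hcov x
  refine ⟨U, _, (p ⁻¹ᵁ U).ι, inferInstance, hxU, (Scheme.Opens.opensRange_ι _).ge, ?_⟩
  refine (isAmple_restrict_iff (p ⁻¹ᵁ U).ι hinv).2
    ⟨isCompact_iff_compactSpace.1 (p.isCompact_preimage hU.isCompact), fun z => ?_⟩
  obtain ⟨y, hy⟩ := ProjQMapX.exists_emb_eq (chart := chart) U hU (x := (p ⁻¹ᵁ U).ι z) z.2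
  obtain ⟨a, ha, hya⟩ := hc y
  obtain ⟨e⟩ := cl_eq_iff.1 (show PicF.cl On = PicF.cl (CohB1.tensorPow On 1) by rw [cl_tensorPow, pow_one])
  have hle : (p ⁻¹ᵁ U).ι ''ᵁ ⊤ ≤ p ⁻¹ᵁ U := by rw [Scheme.Hom.image_top_eq_opensRange, Scheme.Opens.opensRange_ι]
  refine ⟨1, one_pos, AModX.res _ hle (e.hom.app _ (gsec hOn hU ha)), ?_⟩
  rw [locus_res, locus_iso, locus_gsec hn hOn hU hc ha,
    inf_eq_left.2 (by
      rw [Scheme.Hom.image_top_eq_opensRange, Scheme.Opens.opensRange_ι]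
      rintro _ ⟨w, -, rfl⟩
      exact ProjQMapX.emb_mem U hU w)]
  exact ⟨⟨y, hya, hy⟩, (Proj.isAffineOpen_basicOpen _ a ha hn).image_of_isOpenImmersion _⟩

end Groth.Agent.RelProj34
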